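import Groth.Agent.PerfSch.K818.Exist
import Groth.Agent.Picfga.LineFam

/-!
# Pullback of invertible modules along iterated Frobenius is the `p^n`-th tensor power

`frobIter_app`; `nonempty_pullback_frobIter_iso : (F^n)^* L ≅ L^{⊗ p^n}`, `nonempty_pullback_frob_iso`.
-/

set_option autoImplicit false
set_option linter.unusedSectionVars false
set_option backward.isDefEq.respectTransparency false
universe u

open CategoryTheory CategoryTheory.Limits AlgebraicGeometry Opposite TopologicalSpace

namespace K818.FrobPow

open FrobSch K818.Tower Groth.Agent.Fdesc.LocGen Groth.Agent.Picfga.LineFam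

variable {p : ℕ} [Fact p.Prime] {X : Scheme.{u}} [IsCharP X p]

theorem frobIter_app (n : ℕ) (U : X.Opens) (a : Γ(X, U)) :
    (frobIter X p n).app U a = ores (frobIter_preimage (X := X) (p := p) n U).le (a ^ p ^ n) := by
  induction n with
  | zero =>
    rw [_root_.pow_zero, _root_.pow_one]
    exact (ores_refl a).symm
  | succ n ih =>
    have h1 : (frobIter X p (n + 1)).app U a = (frob X p).app (frobIter X p n ⁻¹ᵁ U) ((frobIter X p n).app U a) := rfl
    rw [h1, ih]
    change (ores _ (a ^ p ^ n)) ^ p = _
    rw [← map_pow, ← _root_.pow_mul, ← _root_.pow_succ]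
    rfl

/-- Pullback along the `n`-th iterate of the absolute Frobenius is the `p^n`-th tensor power. -/
theorem nonempty_pullback_frobIter_iso {L : X.Modules} (hL : PicF.IsInvertible L) (n : ℕ) :
    Nonempty ((Scheme.Modules.pullback (frobIter X p n)).obj L ≅ CohB1.tensorPow L (p ^ n)) := by
  obtain ⟨U, e, hU, he⟩ := Fam.exists_gens hL
  have hle (V : X.Opens) : frobIter X p n ⁻¹ᵁ V ≤ V := (frobIter_preimage (X := X) (p := p) n V).le
  obtain ⟨ψ, -⟩ := Fam.exists_iso_of_gens (G := frobIter X p n) (L' := CohB1.tensorPow L (p ^ n)) hU he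
    (fun i => res _ (hle (U i)) (pow (e i) (p ^ n))) (fun i => ((he i).pow (p ^ n)).res _) (fun i j => by
      obtain ⟨a, ha⟩ := ((he j).res (inf_le_right : U i ⊓ U j ≤ U j)).exists_eq
        (res L (inf_le_left : U i ⊓ U j ≤ U i) (e i))
      refine ⟨a, ha, ?_⟩
      rw [frobIter_app, res_res, res_res]
      have h1 := congrArg (fun t => pow t (p ^ n)) ha
      simp only [smul_pow, ← res_pow] at h1
      have h2 := congrArg (res _ (hle (U i ⊓ U j))) h1
      rw [res_smul, res_res, res_res] at h2
      exact h2)
  exact ⟨ψ⟩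

theorem nonempty_pullback_frob_iso {L : X.Modules} (hL : PicF.IsInvertible L) :
    Nonempty ((Scheme.Modules.pullback (frob X p)).obj L ≅ CohB1.tensorPow L p) := by
  have h := nonempty_pullback_frobIter_iso (p := p) hL 1
  rwa [frobIter_one, _root_.pow_one] at h

end K818.FrobPow
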