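import Groth.Agent.PerfSch.K818.Tower
import Groth.Agent.S2151

/-!
# Existence and functoriality of perfections

`exists_isPerfection X` : every scheme of characteristic `p` has a perfection.
`isLimitTowerCone hπ` : for a perfection `π : XP ⟶ X`, `XP` is the limit of the tower of Frobenius morphisms.
-/

set_option autoImplicit false
set_option linter.unusedSectionVars false
set_option backward.isDefEq.respectTransparency false
universe u

open CategoryTheory CategoryTheory.Limits AlgebraicGeometry Opposite TopologicalSpace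

namespace K818.Tower

open FrobSch K818.Basic

variable {p : ℕ} [Fact p.Prime]

instance isAffineHom_frob (X : Scheme.{u}) [IsCharP X p] : IsAffineHom (frob X p) := ⟨fun _ hU => hU⟩

instance isAffineHom_frobIter (X : Scheme.{u}) [IsCharP X p] (n : ℕ) : IsAffineHom (frobIter X p n) :=
  ⟨fun U hU => by rw [frobIter_preimage]; exact hU⟩

instance isAffineHom_towerD_map (X : Scheme.{u}) [IsCharP X p] {i j : (ULift.{u} ℕ)ᵒᵖ} (f : i ⟶ j) :
    IsAffineHom ((towerD X p).map f) := by
  rw [towerD_map]
  exact isAffineHom_frobIter X _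

instance (X : Scheme.{u}) [IsCharP X p] : HasLimit (towerD X p) := by
  have : IsCofiltered (ULift.{u} ℕ)ᵒᵖ := inferInstance
  exact Groth.Agent.S2151.hasLimit (towerD X p)

/-- Every scheme of characteristic `p` has a perfection. -/
theorem exists_isPerfection (X : Scheme.{u}) [IsCharP X p] :
    ∃ (XP : Scheme.{u}) (_ : IsCharP XP p) (π : XP ⟶ X), IsPerfection π p := by
  let c := limit.cone (towerD X p)
  have h : IsCharP c.pt p := IsCharP.of_hom (leg c 0) p
  exact ⟨c.pt, h, leg c 0, isPerfection_of_isLimit (limit.isLimit _)⟩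

/-- The perfection of a scheme of characteristic `p`. -/
noncomputable def perf (p : ℕ) [Fact p.Prime] (X : Scheme.{u}) [IsCharP X p] : Scheme.{u} :=
  (exists_isPerfection (p := p) X).choose

noncomputable instance (X : Scheme.{u}) [IsCharP X p] : IsCharP (perf p X) p :=
  (exists_isPerfection (p := p) X).choose_spec.choose

/-- The projection. -/
noncomputable def perfπ (p : ℕ) [Fact p.Prime] (X : Scheme.{u}) [IsCharP X p] : perf p X ⟶ X :=
  (exists_isPerfection (p := p) X).choose_spec.choose_spec.choose

theorem isPerfection_perfπ (X : Scheme.{u}) [IsCharP X p] : IsPerfection (perfπ p X) p :=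
  (exists_isPerfection (p := p) X).choose_spec.choose_spec.choose_spec

section Cone

variable {X XP : Scheme.{u}} [IsCharP X p] [IsCharP XP p] {π : XP ⟶ X}

/-- The cone over the tower with vertex the perfection. -/
noncomputable def towerCone (π : XP ⟶ X) (hXP : IsPerfect XP p) : Cone (towerD X p) :=
  have (n : ℕ) := isIso_frobIter hXP n
  mkCone (fun n => inv (frobIter XP p n) ≫ π) (fun n => by
    rw [← cancel_epi (frobIter XP p (n + 1)), Category.assoc, IsIso.hom_inv_id_assoc, ← frob_comp,
      frobIter_succ, Category.assoc, IsIso.hom_inv_id_assoc])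

@[simp]
theorem towerCone_pt (hXP : IsPerfect XP p) : (towerCone π hXP).pt = XP := rfl

@[reassoc]
theorem frobIter_towerCone (hXP : IsPerfect XP p) (n : ℕ) :
    frobIter XP p n ≫ (leg (towerCone π hXP) n : XP ⟶ X) = π := by
  have := isIso_frobIter hXP n
  exact IsIso.hom_inv_id_assoc _ _

theorem leg_towerCone_zero (hXP : IsPerfect XP p) : (leg (towerCone π hXP) 0 : XP ⟶ X) = π := by
  have := frobIter_towerCone (π := π) hXP 0
  rwa [frobIter_zero, Category.id_comp] at this

/-- The perfection is the limit of the tower of Frobenius morphisms. -/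
noncomputable def isLimitTowerCone (hπ : IsPerfection π p) : IsLimit (towerCone π hπ.1) := by
  let c := limit.cone (towerD X p)
  have hc : IsLimit c := limit.isLimit _
  have h : IsCharP c.pt p := IsCharP.of_hom (leg c 0) p
  have h1 : IsPerfection (leg c 0) p := isPerfection_of_isLimit hc
  have h2 := isPerfection_exists_iso hπ h1
  let e := h2.choose
  have he : e.hom ≫ leg c 0 = π := h2.choose_spec
  refine hc.ofIsoLimit (Cone.ext e.symm ?_)
  rintro ⟨⟨n⟩⟩
  change leg c n = e.inv ≫ (leg (towerCone π hπ.1) n : XP ⟶ X)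
  rw [← cancel_epi e.hom, e.hom_inv_id_assoc]
  have := isIso_frobIter hπ.1 n
  rw [← cancel_epi (frobIter XP p n), frobIter_towerCone, ← Category.assoc, frobIter_naturality, Category.assoc,
    frobIter_naturality, leg_frobIter_zero, he]

end Cone

section Lift

variable {X : Scheme.{u}}

/-- Lift of a morphism from a perfect scheme. -/
noncomputable def lifP {T XP : Scheme.{u}} [IsCharP T p] [IsCharP XP p] {π : XP ⟶ X} (hπ : IsPerfection π p)
    (hT : IsPerfect T p) (g : T ⟶ X) : T ⟶ XP :=
  ((hπ.2 T hT).2 g).choose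

@[reassoc (attr := simp)]
theorem lifP_comp {T XP : Scheme.{u}} [IsCharP T p] [IsCharP XP p] {π : XP ⟶ X} (hπ : IsPerfection π p)
    (hT : IsPerfect T p) (g : T ⟶ X) : lifP hπ hT g ≫ π = g :=
  ((hπ.2 T hT).2 g).choose_spec

theorem hom_extP {T XP : Scheme.{u}} [IsCharP T p] [IsCharP XP p] {π : XP ⟶ X} (hπ : IsPerfection π p)
    (hT : IsPerfect T p) {a b : T ⟶ XP} (h : a ≫ π = b ≫ π) : a = b :=
  (hπ.2 T hT).1 h

end Lift

section Functor

variable {X Y : Scheme.{u}} [IsCharP X p] [IsCharP Y p] (f : X ⟶ Y)

theorem isPerfect_perf (X : Scheme.{u}) [IsCharP X p] : IsPerfect (perf p X) p := (isPerfection_perfπ X).1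

/-- The perfection of a morphism. -/
noncomputable def perfMap (p : ℕ) [Fact p.Prime] [IsCharP X p] [IsCharP Y p] : perf p X ⟶ perf p Y :=
  lifP (isPerfection_perfπ Y) (isPerfect_perf X) (perfπ p X ≫ f)

@[reassoc (attr := simp)]
theorem perfMap_comp : perfMap f p ≫ perfπ p Y = perfπ p X ≫ f := lifP_comp _ _ _

@[simp]
theorem perfMap_id : perfMap (𝟙 X) p = 𝟙 _ :=
  hom_extP (isPerfection_perfπ X) (isPerfect_perf X) (by simp)

@[reassoc]
theorem perfMap_comp' {Z : Scheme.{u}} [IsCharP Z p] (g : Y ⟶ Z) :
    perfMap (f ≫ g) p = perfMap f p ≫ perfMap g p :=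
  hom_extP (isPerfection_perfπ Z) (isPerfect_perf X) (by simp)

end Functor

end K818.Tower
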