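import Groth.Agent.PerfSch.K818.Basic
import Groth.Agent.FlatA.UnivHomeo

/-!
# The structure of perfections

For a perfection `π : XP ⟶ X` of a scheme of characteristic `p`: `π` is affine, on sections over an affine open it is
`p`-radical (`isPRadical_app`), it is integral, universally injective and surjective, hence a universal homeomorphism
(`isUnivHomeo_of_isPerfection`).
-/

set_option autoImplicit false
set_option linter.unusedSectionVars false
set_option backward.isDefEq.respectTransparency false
universe u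

open CategoryTheory CategoryTheory.Limits AlgebraicGeometry Opposite TopologicalSpace

namespace K818.Struct

open FrobSch K818.Basic K818.Ring

variable {p : ℕ} [Fact p.Prime]

theorem isPRadical_of_bijective {R S : Type*} [CommRing R] [CommRing S] (f : R →+* S)
    (hf : Function.Bijective f) : IsPRadical f p where
  pow_mem' x := by
    obtain ⟨y, rfl⟩ := hf.2 x
    exact ⟨0, y, by simp⟩
  ker_le' x hx := by
    rw [RingHom.mem_ker] at hx
    have : x = 0 := hf.1 (by simpa using hx)
    simp [this]

theorem isPRadical_comp {R S T : Type*} [CommRing R] [CommRing S] [CommRing T] (f : R →+* S) (g : S →+* T)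
    (hf : IsPRadical f p) (hg : IsPRadical g p) : IsPRadical (g.comp f) p :=
  IsPRadical.trans f g p

/-- The affine case: the perfection of an affine scheme is affine, with `p`-radical map on global sections. -/
theorem affine_case {X XP : Scheme.{u}} [IsCharP X p] [IsCharP XP p] {π : XP ⟶ X} (hπ : IsPerfection π p)
    [IsAffine X] : IsAffine XP ∧ IsPRadical π.appTop.hom p := by
  obtain ⟨L, _, i, hi, hL⟩ := exists_perfectClosure (p := p) Γ(X, ⊤) (natCast_eq_zero_app X p ⊤)
  have : IsPRadical (CommRingCat.ofHom i).hom p := hi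
  have : IsCharP (Spec (CommRingCat.of L)) p := isCharP_spec hL.zero
  have h1 : IsPerfection (Spec.map (CommRingCat.ofHom i)) p :=
    isPerfection_spec (CommRingCat.ofHom i) (natCast_eq_zero_app X p ⊤) hL
  have h2 : IsPerfection (Spec.map (CommRingCat.ofHom i) ≫ X.isoSpec.symm.hom) p := isPerfection_comp_iso h1 X.isoSpec.symm
  obtain ⟨e, he⟩ := isPerfection_exists_iso hπ h2
  refine ⟨.of_isIso e.hom, ?_⟩
  have h3 : π.appTop = (X.isoSpec.symm.hom.appTop ≫ (Spec.map (CommRingCat.ofHom i)).appTop) ≫ e.hom.appTop := by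
    rw [← he]; simp
  have h4 : (Spec.map (CommRingCat.ofHom i)).appTop =
      ((Scheme.ΓSpecIso _).hom ≫ CommRingCat.ofHom i) ≫ (Scheme.ΓSpecIso _).inv := by
    rw [Iso.eq_comp_inv]; exact Scheme.ΓSpecIso_naturality _
  have hiso : ∀ {A B : CommRingCat.{u}} (f : A ⟶ B) [IsIso f], IsPRadical f.hom p := fun f _ =>
    isPRadical_of_bijective f.hom ((ConcreteCategory.isIso_iff_bijective f).mp inferInstance)
  rw [h3, h4]
  simp only [CommRingCat.hom_comp]
  refine isPRadical_comp _ _ (isPRadical_comp _ _ (hiso _) (isPRadical_comp _ _ (isPRadical_comp _ _ (hiso _) hi) (hiso _)))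
    (hiso _)

variable {X XP : Scheme.{u}} [IsCharP X p] [IsCharP XP p] {π : XP ⟶ X}

theorem isAffineHom_of_isPerfection (hπ : IsPerfection π p) : IsAffineHom π where
  isAffine_preimage U hU := by
    have h : IsAffine U.toScheme := hU
    exact (affine_case (isPerfection_restrict hπ U)).1

theorem isPRadical_app_aux {Y Z : Scheme.{u}} (f : Y ⟶ Z) (U V : Z.Opens) (h : U = V)
    (hU : IsPRadical (f.app U).hom p) : IsPRadical (f.app V).hom p := by
  subst h; exact hU

theorem isPRadical_app (hπ : IsPerfection π p) (U : X.Opens) (hU : IsAffineOpen U) :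
    IsPRadical (π.app U).hom p := by
  have h : IsAffine U.toScheme := hU
  have h1 := (affine_case (isPerfection_restrict hπ U)).2
  rw [morphismRestrict_appTop] at h1
  refine isPRadical_app_aux π (U.ι ''ᵁ ⊤) U (by simp) ?_
  have h2 : π.app (U.ι ''ᵁ ⊤) = (π.app (U.ι ''ᵁ ⊤) ≫ XP.presheaf.map (eqToHom (image_morphismRestrict_preimage π U ⊤)).op)
    ≫ inv (XP.presheaf.map (eqToHom (image_morphismRestrict_preimage π U ⊤)).op) := by simp
  rw [h2]
  simp only [CommRingCat.hom_comp]
  exact isPRadical_comp _ _ h1 (isPRadical_of_bijective _ ((ConcreteCategory.isIso_iff_bijective _).mp inferInstance))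

theorem isIntegral_of_isPRadical {R S : Type*} [CommRing R] [CommRing S] (f : R →+* S) [IsPRadical f p] :
    f.IsIntegral := by
  intro x
  obtain ⟨n, y, hy⟩ := IsPRadical.pow_mem f p x
  refine ⟨Polynomial.X ^ p ^ n - Polynomial.C y, Polynomial.monic_X_pow_sub_C y ?_, ?_⟩
  · exact pow_ne_zero _ (Fact.out : p.Prime).ne_zero
  · simp [hy]

theorem isUnivHomeo_spec {R S : CommRingCat.{u}} (f : R ⟶ S) [IsPRadical f.hom p] (hR : (p : R) = 0) :
    FlatMor.IsUnivHomeo (Spec.map f) := by
  rw [Groth.Agent.FlatA.UnivHomeo.isUnivHomeo_iff]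
  have hint : f.hom.IsIntegral := isIntegral_of_isPRadical f.hom (p := p)
  refine ⟨?_, ?_, ?_⟩
  · rw [IsIntegralHom.SpecMap_iff]
    exact hint
  · refine ((tfae_universallyInjective (Spec.map f)).out 0 1).2 ?_
    intro K _ g₁ g₂ h12
    obtain ⟨g₁, rfl⟩ := Spec.map_surjective g₁
    obtain ⟨g₂, rfl⟩ := Spec.map_surjective g₂
    congr 1
    dsimp only at h12
    rw [← Spec.map_comp, ← Spec.map_comp] at h12
    have h3 := Spec.map_injective h12
    have hK : (p : K) = 0 := natCast_eq_zero_of_hom (f ≫ g₁).hom hR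
    have : CharP K p := charP_of hK
    ext x
    obtain ⟨n, y, hy⟩ := IsPRadical.pow_mem f.hom p x
    refine iterateFrobenius_inj K p n ?_
    rw [iterateFrobenius_def, iterateFrobenius_def, ← map_pow, ← map_pow, ← hy]
    exact congr($(congrArg CommRingCat.Hom.hom h3) y)
  · constructor
    show Function.Surjective (PrimeSpectrum.comap f.hom)
    have hker : RingHom.ker f.hom ≤ nilradical R :=
      (IsPRadical.ker_le f.hom p).trans pNilradical_le_nilradical
    have h4 : f.hom.kerLift.IsIntegral := by
      intro x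
      obtain ⟨q, hq, hq'⟩ := hint x
      refine ⟨q.map (Ideal.Quotient.mk _), hq.map _, ?_⟩
      rw [Polynomial.eval₂_map]
      exact hq'
    exact (PrimeSpectrum.comap_quotientMk_bijective_of_le_nilradical hker).2.comp <|
      h4.comap_surjective f.hom.kerLift_injective

instance : FlatMor.IsUnivHomeo.{u}.IsStableUnderBaseChange :=
  MorphismProperty.universally_isStableUnderBaseChange _

theorem isUnivHomeo_of_isAffine {Y Z : Scheme.{u}} [IsCharP Z p] [IsAffine Y] [IsAffine Z] (f : Y ⟶ Z)
    (h : IsPRadical f.appTop.hom p) : FlatMor.IsUnivHomeo f := by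
  rw [MorphismProperty.arrow_mk_iso_iff FlatMor.IsUnivHomeo (arrowIsoSpecΓOfIsAffine f)]
  exact isUnivHomeo_spec (p := p) f.appTop (natCast_eq_zero_app Z p ⊤)

/-- An affine morphism which is `p`-radical over affine opens is a universal homeomorphism. -/
theorem isUnivHomeo_of_isPRadical {Y Z : Scheme.{u}} [IsCharP Z p] (f : Y ⟶ Z) [IsAffineHom f]
    (h : ∀ U : Z.Opens, IsAffineOpen U → IsPRadical (f.app U).hom p) : FlatMor.IsUnivHomeo f := by
  have key : ∀ U : Z.affineOpens, FlatMor.IsUnivHomeo (f ∣_ U.1) := by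
    intro U
    have h1 : IsAffine U.1.toScheme := U.2
    have h2 : IsAffine (f ⁻¹ᵁ U.1).toScheme := U.2.preimage f
    refine isUnivHomeo_of_isAffine (p := p) _ ?_
    rw [morphismRestrict_appTop]
    simp only [CommRingCat.hom_comp]
    refine isPRadical_comp _ _ (isPRadical_app_aux f U.1 _ (by simp) (h U.1 U.2))
      (isPRadical_of_bijective _ ((ConcreteCategory.isIso_iff_bijective _).mp inferInstance))
  simp only [Groth.Agent.FlatA.UnivHomeo.isUnivHomeo_iff] at key ⊢
  refine ⟨?_, ?_, ?_⟩
  · exact IsZariskiLocalAtTarget.of_iSup_eq_top (P := @IsIntegralHom) _ (iSup_affineOpens_eq_top Z)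
      (fun U => (key U).1)
  · exact IsZariskiLocalAtTarget.of_iSup_eq_top (P := @UniversallyInjective) _ (iSup_affineOpens_eq_top Z)
      (fun U => (key U).2.1)
  · exact IsZariskiLocalAtTarget.of_iSup_eq_top (P := @Surjective) _ (iSup_affineOpens_eq_top Z)
      (fun U => (key U).2.2)

theorem isUnivHomeo_of_isPerfection (hπ : IsPerfection π p) : FlatMor.IsUnivHomeo π := by
  have := isAffineHom_of_isPerfection hπ
  exact isUnivHomeo_of_isPRadical (p := p) π (isPRadical_app hπ)

end K818.Struct
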