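import Groth.Agent.PerfSch.K818.Sections

/-!
# Affineness descends along perfections

`isAffine_of_isPRadical`: let `f : Y ⟶ Z` be an affine morphism, `p`-radical over affine opens (`p = 0` on `Z`);
if `Y` is affine then `Z` is affine.
-/

set_option autoImplicit false
set_option linter.unusedSectionVars false
set_option backward.isDefEq.respectTransparency false
universe u

open CategoryTheory CategoryTheory.Limits AlgebraicGeometry Opposite TopologicalSpace

namespace K818.Affine

open FrobSch K818.Basic K818.Ring K818.Struct K818.Sections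

variable {p : ℕ} [Fact p.Prime]

theorem span_eq_top_of_isPRadical {A B : CommRingCat.{u}} (φ : A ⟶ B) [IsPRadical φ.hom p] (hA : (p : A) = 0)
    (S : Set A) (hS : Ideal.span (φ.hom '' S) = ⊤) : Ideal.span S = ⊤ := by
  by_contra hne
  obtain ⟨m, hm, hSm⟩ := Ideal.exists_le_maximal _ hne
  have h1 := isUnivHomeo_spec (p := p) φ hA
  have h2 : Function.Surjective (Spec.map φ) :=
    (Groth.Agent.FlatA.UnivHomeo.isHomeomorph_of_isUnivHomeo h1).surjective
  obtain ⟨q, hq⟩ := h2 ⟨m, hm.isPrime⟩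
  have h3 : Ideal.comap φ.hom q.asIdeal = m := congrArg PrimeSpectrum.asIdeal hq
  have h4 : Ideal.span (φ.hom '' S) ≤ q.asIdeal := by
    rw [Ideal.span_le]
    rintro _ ⟨s, hs, rfl⟩
    have : s ∈ m := hSm (Ideal.subset_span hs)
    rw [← h3] at this
    exact this
  rw [hS] at h4
  exact q.isPrime.ne_top (top_le_iff.mp h4)

theorem isAffine_of_isPRadical {Y Z : Scheme.{u}} [IsCharP Z p] (f : Y ⟶ Z) [IsAffineHom f]
    (h : ∀ U : Z.Opens, IsAffineOpen U → IsPRadical (f.app U).hom p) [IsAffine Y] : IsAffine Z := by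
  have hf : FlatMor.IsUnivHomeo f := isUnivHomeo_of_isPRadical (p := p) f h
  have hh : IsHomeomorph f := Groth.Agent.FlatA.UnivHomeo.isHomeomorph_of_isUnivHomeo hf
  have hc : CompactSpace Z := hh.homeomorph.compactSpace
  have hqs : QuasiSeparatedSpace Z := (quasiSeparatedSpace_congr hh.homeomorph).mp inferInstance
  have hrad : IsPRadical (f.app ⊤).hom p :=
    isPRadical_app_of_isCompact f h ⊤ isCompact_univ isQuasiSeparated_univ
  -- the set of good functions
  let S : Set Γ(Z, ⊤) := {a | IsAffineOpen (Z.basicOpen a)}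
  have key : ∀ z : Z, ∃ a ∈ S, z ∈ Z.basicOpen a := by
    intro z
    obtain ⟨y, rfl⟩ := hh.surjective z
    obtain ⟨U, hU, hzU, -⟩ := exists_isAffineOpen_mem_and_subset (X := Z) (U := ⊤) (x := f y) trivial
    obtain ⟨s, hs, hys⟩ := (isAffineOpen_top Y).exists_basicOpen_le (V := f ⁻¹ᵁ U) ⟨y, hzU⟩ trivial
    obtain ⟨n, a, ha⟩ := IsPRadical.pow_mem (f.app ⊤).hom p s
    have h1 : f ⁻¹ᵁ (Z.basicOpen a) = Y.basicOpen s := by
      rw [Scheme.preimage_basicOpen]
      have h2 : (f.app ⊤) a = s ^ p ^ n := ha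
      rw [h2]
      exact Scheme.basicOpen_pow Y _ (pow_pos (Fact.out : p.Prime).pos n)
    have h3 : Z.basicOpen a ≤ U := by
      intro z hz
      obtain ⟨y', rfl⟩ := hh.surjective z
      have h4 : y' ∈ f ⁻¹ᵁ (Z.basicOpen a) := hz
      rw [h1] at h4
      exact hs h4
    have h5 : Z.basicOpen (Z.presheaf.map (homOfLE (le_top : U ≤ ⊤)).op a) = Z.basicOpen a := by
      rw [Scheme.basicOpen_res]
      exact inf_eq_right.mpr h3
    refine ⟨a, ?_, ?_⟩
    · show IsAffineOpen _
      rw [← h5]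
      exact hU.basicOpen _
    · have : y ∈ f ⁻¹ᵁ (Z.basicOpen a) := by
        rw [h1]; exact hys
      exact this
  refine isAffine_of_isAffineOpen_basicOpen S ?_ (fun i hi => hi)
  refine span_eq_top_of_isPRadical (p := p) (f.app ⊤) (natCast_eq_zero_app Z p ⊤) S ?_
  rw [← (isAffineOpen_top Y).self_le_iSup_basicOpen_iff]
  intro y _
  obtain ⟨a, ha, hya⟩ := key (f y)
  have h6 : y ∈ Y.basicOpen (f.app ⊤ a) := by
    rw [← Scheme.preimage_basicOpen]; exact hya
  rw [Opens.mem_iSup]
  exact ⟨⟨f.app ⊤ a, ⟨a, ha, rfl⟩⟩, h6⟩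

end K818.Affine
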