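import Groth.Agent.PerfSch.K818.Affine
import Groth.Agent.Sga5.AmpleFib
import Groth.Agent.Fdesc.LocGenAmple

/-!
# Ampleness and perfections

`isAmple_iff` : an invertible module on a qcqs scheme of characteristic `p` is ample if and only if its pullback
along an affine `p`-radical morphism (for example a perfection) is ample.
-/

set_option autoImplicit false
set_option linter.unusedSectionVars false
set_option backward.isDefEq.respectTransparency false
universe u

open CategoryTheory CategoryTheory.Limits AlgebraicGeometry Opposite TopologicalSpace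

namespace K818.Ample

open FrobSch K818.Basic K818.Sections K818.Struct Groth.Agent.Fdesc.LocGen Groth.Agent.Flat2H.FamExt
  Groth.Agent.Flat2H.FamDict

variable {p : ℕ} [Fact p.Prime] {Y Z : Scheme.{u}} [IsCharP Z p] (f : Y ⟶ Z)
  (h : ∀ U : Z.Opens, IsAffineOpen U → IsPRadical (f.app U).hom p)

theorem app_ores {U V : Z.Opens} (hV : V ≤ U) (a : Γ(Z, U)) :
    (f.app V (ores hV a) : Γ(Y, f ⁻¹ᵁ V)) = ores (f.preimage_mono hV) (f.app U a : Γ(Y, f ⁻¹ᵁ U)) :=
  map_app f hV a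

include h in
/-- Descent of a compatible family of functions along a `p`-radical morphism, after a `p`-power. -/
theorem exists_fam {ι : Type*} [Finite ι] (W : ι → Z.Opens) (hW : ∀ i, IsCompact (W i : Set Z))
    (hW' : ∀ i, IsQuasiSeparated (W i : Set Z)) (hWW : ∀ i j, IsCompact ((W i ⊓ W j : Z.Opens) : Set Z))
    (g : ∀ i j, Γ(Z, W i ⊓ W j)) (k : ℕ) (b' : ∀ i, Γ(Y, f ⁻¹ᵁ W i))
    (hb' : IsFam (fun i => f ⁻¹ᵁ W i) (fun i j => (show Γ(Y, f ⁻¹ᵁ W i ⊓ f ⁻¹ᵁ W j) from f.app _ (g i j)) ^ k) b') :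
    ∃ (m : ℕ) (b : ∀ i, Γ(Z, W i)), IsFam W (fun i j => g i j ^ (k * p ^ m)) b ∧
      ∀ i, (f.app (W i) (b i) : Γ(Y, f ⁻¹ᵁ W i)) = b' i ^ p ^ m := by
  choose n0 a0 ha0 using fun i => exists_app_eq_pow f h (W i) (hW i) (hW' i) (b' i)
  obtain ⟨N, hN⟩ := exists_max n0
  obtain ⟨a, ha⟩ : ∃ a : ∀ i, Γ(Z, W i), ∀ i, (f.app (W i) (a i) : Γ(Y, f ⁻¹ᵁ W i)) = b' i ^ p ^ N := by
    refine ⟨fun i => a0 i ^ p ^ (N - n0 i), fun i => ?_⟩
    rw [map_pow, ha0, ← _root_.pow_mul, ← _root_.pow_add, Nat.add_sub_cancel' (hN i)]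
  have h1 : ∀ i j : ι, ∃ n : ℕ,
      (ores (inf_le_left : W i ⊓ W j ≤ W i) (a i) * g i j ^ (k * p ^ N)) ^ p ^ n =
        ores (inf_le_right : W i ⊓ W j ≤ W j) (a j) ^ p ^ n := by
    intro i j
    refine pow_eq_pow_of_app_eq f h (W i ⊓ W j) (hWW i j) _ _ ?_
    have h2 : ores (f.preimage_mono (inf_le_left : W i ⊓ W j ≤ W i)) (b' i) *
      (f.app _ (g i j) : Γ(Y, f ⁻¹ᵁ (W i ⊓ W j))) ^ k =
        ores (f.preimage_mono (inf_le_right : W i ⊓ W j ≤ W j)) (b' j) := hb' i j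
    have e1 := app_ores f (inf_le_left : W i ⊓ W j ≤ W i) (a i)
    have e2 := app_ores f (inf_le_right : W i ⊓ W j ≤ W j) (a j)
    rw [ha, map_pow] at e1 e2
    rw [map_mul, e1, e2, ← h2, map_pow, _root_.pow_mul, mul_pow]
  choose n1 hn1 using h1
  obtain ⟨M, hM⟩ := exists_max (fun ij : ι × ι => n1 ij.1 ij.2)
  refine ⟨N + M, fun i => a i ^ p ^ M, fun i j => ?_, fun i => ?_⟩
  · have h4 : (_ : Γ(Z, W i ⊓ W j)) = _ := congrArg (· ^ p ^ (M - n1 i j)) (hn1 i j)
    rw [← _root_.pow_mul, ← _root_.pow_mul, ← _root_.pow_add, Nat.add_sub_cancel' (hM (i, j)), mul_pow,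
      ← _root_.pow_mul, mul_assoc, ← _root_.pow_add] at h4
    rw [map_pow, map_pow]
    exact h4
  · rw [map_pow, ha, ← _root_.pow_mul, ← _root_.pow_add]

include h in
/-- Affineness of opens descends along affine `p`-radical morphisms. -/
theorem isAffineOpen_of_preimage [IsAffineHom f] {U : Z.Opens} (hU : IsAffineOpen (f ⁻¹ᵁ U)) : IsAffineOpen U := by
  have h2 : IsAffine (f ⁻¹ᵁ U).toScheme := hU
  have h3 : ∀ V : U.toScheme.Opens, IsAffineOpen V → IsPRadical ((f ∣_ U).app V).hom p := by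
    intro V hV
    rw [morphismRestrict_app]
    simp only [CommRingCat.hom_comp]
    exact isPRadical_comp _ _ (h _ (hV.image_of_isOpenImmersion _))
      (isPRadical_of_bijective _ ((ConcreteCategory.isIso_iff_bijective _).mp inferInstance))
  have h4 : IsAffineHom (f ∣_ U) := IsZariskiLocalAtTarget.restrict ‹IsAffineHom f› _
  exact K818.Affine.isAffine_of_isPRadical (p := p) (f ∣_ U) h3

include h in
/-- Ampleness descends along affine `p`-radical morphisms to qcqs schemes. -/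
theorem isAmple_of_pullback [CompactSpace Z] [QuasiSeparatedSpace Z] [IsAffineHom f] {L : Z.Modules}
    (hL : PicF.IsInvertible L) (hA : CohB1.IsAmple ((Scheme.Modules.pullback f).obj L)) : CohB1.IsAmple L := by
  have hu : FlatMor.IsUnivHomeo f := isUnivHomeo_of_isPRadical (p := p) f h
  have hh : IsHomeomorph f := Groth.Agent.FlatA.UnivHomeo.isHomeomorph_of_isUnivHomeo hu
  obtain ⟨n, W, g, hWa, hW⟩ := exists_trivs hL IsAffineOpen (fun U x hx => by
    obtain ⟨V, hV, hxV, hVU⟩ := exists_affine_nhds hx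
    exact ⟨V, hxV, hVU, hV⟩)
  rw [hW.isAmple_iff]
  obtain ⟨-, hx⟩ := (hW.pullback f).isAmple_iff.1 hA
  refine ⟨inferInstance, fun x => ?_⟩
  obtain ⟨y, rfl⟩ := hh.surjective x
  obtain ⟨k, b', hb', hyb, haff⟩ := hx y
  obtain ⟨m, b, hb, hbb⟩ := exists_fam f h W (fun i => (hWa i).isCompact) (fun i => (hWa i).isQuasiSeparated)
    (fun i j => QuasiSeparatedSpace.inter_isCompact _ _ (W i).isOpen (hWa i).isCompact
      (W j).isOpen (hWa j).isCompact) g (k + 1) b' hb'
  have hp : 0 < p ^ m := pow_pos (Fact.out : p.Prime).pos m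
  have hk : (k + 1) * p ^ m = ((k + 1) * p ^ m - 1) + 1 := by
    have : 0 < (k + 1) * p ^ m := Nat.mul_pos (Nat.succ_pos k) hp
    omega
  have hpre : f ⁻¹ᵁ (⨆ j, Z.basicOpen (b j)) = ⨆ j, Y.basicOpen (b' j) := by
    rw [Scheme.Hom.preimage_iSup]
    refine iSup_congr fun j => ?_
    rw [Scheme.preimage_basicOpen, hbb, Scheme.basicOpen_pow _ _ hp]
  refine ⟨(k + 1) * p ^ m - 1, b, by rwa [← hk], ?_, ?_⟩
  · rw [← hpre] at hyb
    exact hyb
  · rw [← hpre] at haff
    exact isAffineOpen_of_preimage f h haff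

end K818.Ample
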