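import Mathlib.FieldTheory.IsPerfectClosure

/-!
# `p`-radical ring maps and perfect rings, zero ring allowed

`PerfRing p R`: `p = 0` in `R` and `x ↦ x ^ p` is bijective (unlike `PerfectRing`, the zero ring is allowed).
-/

set_option autoImplicit false
set_option linter.unusedSectionVars false
universe u

namespace K818.Ring

/-- `R` is a perfect ring of characteristic `p` (possibly zero). -/
structure PerfRing (p : ℕ) (R : Type*) [CommRing R] : Prop where
  zero : (p : R) = 0
  bij : Function.Bijective (fun x : R => x ^ p)

variable {p : ℕ} [Fact p.Prime]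

theorem charP_of {R : Type*} [CommRing R] [Nontrivial R] (h : (p : R) = 0) : CharP R p :=
  (CharP.charP_iff_prime_eq_zero Fact.out).2 h

theorem add_pow_p {R : Type*} [CommRing R] (h : (p : R) = 0) (a b : R) (n : ℕ) :
    (a + b) ^ p ^ n = a ^ p ^ n + b ^ p ^ n := by
  rcases subsingleton_or_nontrivial R with hR | hR
  · exact Subsingleton.elim _ _
  · have : CharP R p := charP_of h
    exact add_pow_char_pow (p := p) (x := a) (y := b) (n := n)

theorem sub_pow_p {R : Type*} [CommRing R] (h : (p : R) = 0) (a b : R) (n : ℕ) :
    (a - b) ^ p ^ n = a ^ p ^ n - b ^ p ^ n := by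
  rcases subsingleton_or_nontrivial R with hR | hR
  · exact Subsingleton.elim _ _
  · have : CharP R p := charP_of h
    exact sub_pow_char_pow (p := p) (x := a) (y := b) (n := n)

theorem natCast_eq_zero_of_hom {R S : Type*} [CommRing R] [CommRing S] (f : R →+* S) (h : (p : R) = 0) :
    (p : S) = 0 := by
  simpa using congrArg f h

namespace PerfRing

variable {R : Type*} [CommRing R]

theorem bij_pow (h : PerfRing p R) (n : ℕ) : Function.Bijective (fun x : R => x ^ p ^ n) := by
  induction n with
  | zero =>
    simp only [pow_zero, pow_one]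
    exact Function.bijective_id
  | succ n ih =>
    have : (fun x : R => x ^ p ^ (n + 1)) = (fun x : R => x ^ p ^ n) ∘ (fun x => x ^ p) := by
      funext x; simp [← pow_mul, pow_succ, mul_comm]
    rw [this]
    exact ih.comp h.bij

theorem isReduced (h : PerfRing p R) : IsReduced R := by
  refine isReduced_iff_pow_one_lt p (Fact.out : p.Prime).one_lt |>.mpr ?_
  intro x hx
  refine h.bij.1 ?_
  simpa [zero_pow (Fact.out : p.Prime).ne_zero] using hx

/-- The `p ^ n`-th root. -/
noncomputable def root (h : PerfRing p R) (n : ℕ) (x : R) : R := ((h.bij_pow n).2 x).choose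

theorem root_pow (h : PerfRing p R) (n : ℕ) (x : R) : h.root n x ^ p ^ n = x := ((h.bij_pow n).2 x).choose_spec

theorem pow_inj (h : PerfRing p R) {n : ℕ} {x y : R} (e : x ^ p ^ n = y ^ p ^ n) : x = y := (h.bij_pow n).1 e

theorem of_ringEquiv {S : Type*} [CommRing S] (e : R ≃+* S) (h : PerfRing p R) : PerfRing p S where
  zero := natCast_eq_zero_of_hom e.toRingHom h.zero
  bij := by
    have : (fun s : S => s ^ p) = e ∘ (fun s : R => s ^ p) ∘ e.symm := by
      funext s; simp
    rw [this]
    exact e.bijective.comp (h.bij.comp e.symm.bijective)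

theorem perfectRing (h : PerfRing p R) [CharP R p] : PerfectRing R p where
  bijective_frobenius := h.bij

theorem of_perfectRing [CharP R p] [PerfectRing R p] : PerfRing p R where
  zero := CharP.cast_eq_zero R p
  bij := PerfectRing.bijective_frobenius (R := R) (p := p)

theorem of_subsingleton [Subsingleton R] : PerfRing p R where
  zero := Subsingleton.elim _ _
  bij := ⟨fun _ _ _ => Subsingleton.elim _ _, fun x => ⟨x, Subsingleton.elim _ _⟩⟩

end PerfRing

theorem nontrivial_of_isPRadical {R L : Type*} [CommRing R] [CommRing L] (i : R →+* L) [IsPRadical i p]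
    [Nontrivial R] : Nontrivial L := by
  by_contra hL
  rw [not_nontrivial_iff_subsingleton] at hL
  have h1 : (1 : R) ∈ RingHom.ker i := by
    rw [RingHom.mem_ker]; exact Subsingleton.elim _ _
  obtain ⟨n, hn⟩ := mem_pNilradical.mp (IsPRadical.ker_le i p h1)
  simp at hn

/-- Two ring maps to a perfect ring which agree on the source of a `p`-radical map are equal. -/
theorem hom_ext_of_isPRadical {R L M : Type*} [CommRing R] [CommRing L] [CommRing M] (i : R →+* L)
    [IsPRadical i p] (hM : PerfRing p M) {f g : L →+* M} (h : f.comp i = g.comp i) : f = g := by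
  ext x
  obtain ⟨n, y, hy⟩ := IsPRadical.pow_mem i p x
  refine hM.pow_inj (n := n) ?_
  rw [← map_pow, ← map_pow, ← hy]
  exact congr($h y)

/-- The universal property of the perfect closure. -/
theorem existsUnique_lift {R L M : Type*} [CommRing R] [CommRing L] [CommRing M] (i : R →+* L)
    [IsPRadical i p] (hR : (p : R) = 0) (hM : PerfRing p M) (j : R →+* M) :
    ∃! f : L →+* M, f.comp i = j := by
  suffices h : ∃ f : L →+* M, f.comp i = j by
    obtain ⟨f, hf⟩ := h
    exact ⟨f, hf, fun g hg => hom_ext_of_isPRadical i hM (hg.trans hf.symm)⟩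
  rcases subsingleton_or_nontrivial M with hM' | hM'
  · have f : L →+* M :=
      { toFun := fun _ => 0, map_one' := Subsingleton.elim _ _, map_mul' := fun _ _ => Subsingleton.elim _ _,
        map_zero' := rfl, map_add' := fun _ _ => Subsingleton.elim _ _ }
    exact ⟨f, RingHom.ext fun x => Subsingleton.elim _ _⟩
  · have hR' : Nontrivial R := j.domain_nontrivial
    have : Nontrivial L := nontrivial_of_isPRadical i (p := p)
    have : CharP R p := charP_of hR
    have : CharP L p := charP_of (natCast_eq_zero_of_hom i hR)
    have : CharP M p := charP_of hM.zero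
    have : PerfectRing M p := hM.perfectRing
    exact ⟨PerfectRing.lift i j p, PerfectRing.lift_comp i j p⟩

theorem bijective_comp {R L M : Type*} [CommRing R] [CommRing L] [CommRing M] (i : R →+* L)
    [IsPRadical i p] (hR : (p : R) = 0) (hM : PerfRing p M) :
    Function.Bijective (fun f : L →+* M => f.comp i) := by
  rw [Function.bijective_iff_existsUnique]
  exact existsUnique_lift i hR hM

/-- Existence of a perfect closure. -/
theorem exists_perfectClosure (R : Type u) [CommRing R] (hR : (p : R) = 0) :
    ∃ (L : Type u) (_ : CommRing L) (i : R →+* L), IsPRadical i p ∧ PerfRing p L := by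
  rcases subsingleton_or_nontrivial R with hR' | hR'
  · exact ⟨R, inferInstance, RingHom.id R, inferInstance, .of_subsingleton⟩
  · have : CharP R p := charP_of hR
    exact ⟨PerfectClosure R p, inferInstance, PerfectClosure.of R p, inferInstance, .of_perfectRing⟩

end K818.Ring
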