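import Groth.Prelude.Def_Frob
import Groth.Agent.PerfSch.K818.Ring
import Mathlib.AlgebraicGeometry.Morphisms.IsIso
import Mathlib.AlgebraicGeometry.Morphisms.Affine

/-!
# Perfect schemes and perfections: first properties

* `bijective_pow_of_isPerfect`, `isPerfect_of_affine_cover`: perfectness on sections over (affine) opens.
* `isPerfect_of_isOpenImmersion`: opens of perfect schemes are perfect.
* `existsUnique_lift`: the universal property of the perfect closure of a ring (zero ring allowed).
* `isPerfection_spec`: `Spec` of a `p`-radical ring map to a perfect ring is a perfection.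
* `isPerfection_restrict`: perfections restrict to opens; `exists_iso`: they are unique.
-/

set_option autoImplicit false
set_option linter.unusedSectionVars false
set_option backward.isDefEq.respectTransparency false
universe u

open CategoryTheory CategoryTheory.Limits AlgebraicGeometry Opposite TopologicalSpace

namespace K818.Basic

open FrobSch

variable {p : ℕ} [Fact p.Prime]

theorem isIso_iff_appTop {X Y : Scheme.{u}} [IsAffine X] [IsAffine Y] (f : X ⟶ Y) :
    IsIso f ↔ IsIso f.appTop := by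
  have h := (HasAffineProperty.iff_of_isAffine (P := MorphismProperty.isomorphisms Scheme.{u}) (f := f))
  exact h.trans ⟨fun h => h.2, fun h => ⟨inferInstance, h⟩⟩

section Perfect

variable {X : Scheme.{u}} [IsCharP X p]

theorem bijective_pow_of_isPerfect (h : IsPerfect X p) (U : X.Opens) :
    Function.Bijective (fun s : Γ(X, U) => s ^ p) := by
  have : IsIso (frob X p) := h
  have h1 : IsIso ((frob X p).app U) := inferInstance
  have h2 := (ConcreteCategory.isIso_iff_bijective ((frob X p).app U)).mp h1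
  exact h2

theorem isPerfect_of_affine_cover {ι : Type*} (U : ι → X.affineOpens) (hU : (⨆ i, (U i : X.Opens)) = ⊤)
    (h : ∀ i, Function.Bijective (fun s : Γ(X, (U i : X.Opens)) => s ^ p)) : IsPerfect X p := by
  refine HasAffineProperty.of_iSup_eq_top (P := MorphismProperty.isomorphisms Scheme)
    (f := frob X p) U hU ?_
  intro i
  refine ⟨(U i).2, ?_⟩
  have h1 : IsIso ((frob X p).app (U i).1) :=
    (ConcreteCategory.isIso_iff_bijective ((frob X p).app (U i).1)).mpr (h i)
  rw [morphismRestrict_appTop]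
  have h2 : ∀ (V : X.Opens) (hV : V = (U i).1), IsIso ((frob X p).app V) := by
    rintro V rfl; exact h1
  have h3 := h2 ((U i).1.ι ''ᵁ ⊤) (by simp)
  infer_instance

theorem isPerfect_of_isAffine [IsAffine X] (h : Function.Bijective (fun s : Γ(X, ⊤) => s ^ p)) :
    IsPerfect X p := by
  refine isPerfect_of_affine_cover (ι := Unit) (fun _ => ⟨⊤, isAffineOpen_top X⟩) (by simp) ?_
  intro _
  exact h

/-- bijectivity of the `p`-th power map transfers along ring isomorphisms. -/
theorem bijective_pow_of_ringEquiv {R S : Type*} [CommRing R] [CommRing S] (e : R ≃+* S) (p : ℕ)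
    (h : Function.Bijective (fun s : R => s ^ p)) : Function.Bijective (fun s : S => s ^ p) := by
  have : (fun s : S => s ^ p) = e ∘ (fun s : R => s ^ p) ∘ e.symm := by
    funext s; simp
  rw [this]
  exact e.bijective.comp (h.comp e.symm.bijective)

theorem isPerfect_of_isOpenImmersion {U : Scheme.{u}} [IsCharP U p] (j : U ⟶ X) [IsOpenImmersion j]
    (h : IsPerfect X p) : IsPerfect U p := by
  refine isPerfect_of_affine_cover (ι := U.affineOpens) (fun V => V) (iSup_affineOpens_eq_top U) ?_
  intro V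
  exact bijective_pow_of_ringEquiv (j.appIso V.1).commRingCatIsoToRingEquiv p
    (bijective_pow_of_isPerfect h (j ''ᵁ V.1))

theorem isPerfect_of_iso {Y : Scheme.{u}} [IsCharP Y p] (e : Y ≅ X) (h : IsPerfect X p) : IsPerfect Y p :=
  isPerfect_of_isOpenImmersion e.hom h

theorem perfRing_of_isPerfect (h : IsPerfect X p) (U : X.Opens) : Ring.PerfRing p Γ(X, U) where
  zero := natCast_eq_zero_app X p U
  bij := bijective_pow_of_isPerfect h U

end Perfect

theorem isCharP_spec {R : CommRingCat.{u}} (h : (p : R) = 0) : IsCharP (Spec R) p where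
  natCast_eq_zero := by
    apply (Scheme.ΓSpecIso R).commRingCatIsoToRingEquiv.injective
    rw [map_natCast, map_zero]
    exact h

theorem isPerfect_spec {R : CommRingCat.{u}} [IsCharP (Spec R) p] (h : Ring.PerfRing p R) :
    IsPerfect (Spec R) p :=
  isPerfect_of_isAffine (bijective_pow_of_ringEquiv (Scheme.ΓSpecIso R).symm.commRingCatIsoToRingEquiv p h.bij)

/-- `Spec` of a `p`-radical ring map to a perfect ring is a perfection. -/
theorem isPerfection_spec {R L : CommRingCat.{u}} (i : R ⟶ L) [IsPRadical i.hom p] (hR : (p : R) = 0)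
    (hL : Ring.PerfRing p L) [IsCharP (Spec L) p] : IsPerfection (Spec.map i) p := by
  refine ⟨isPerfect_spec hL, fun Y _ hY => ?_⟩
  have hM : Ring.PerfRing p Γ(Y, ⊤) := perfRing_of_isPerfect hY ⊤
  have h1 := Ring.bijective_comp i.hom hR hM
  let eL := ΓSpec.adjunction.homEquiv Y (op L)
  let eR := ΓSpec.adjunction.homEquiv Y (op R)
  have h2 : (fun g : Y ⟶ Spec L => g ≫ Spec.map i) = eR ∘ (fun g : op Γ(Y, ⊤) ⟶ op L => g ≫ i.op) ∘ eL.symm := by
    funext g
    obtain ⟨g, rfl⟩ := eL.surjective g
    simp only [Function.comp_apply, Equiv.symm_apply_apply]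
    exact (Adjunction.homEquiv_naturality_right _ g i.op).symm
  rw [h2]
  refine eR.bijective.comp (Function.Bijective.comp ?_ eL.symm.bijective)
  let tL : (op Γ(Y, ⊤) ⟶ op L) ≃ (L →+* Γ(Y, ⊤)) :=
    { toFun := fun f => f.unop.hom, invFun := fun f => (CommRingCat.ofHom f).op,
      left_inv := fun _ => rfl, right_inv := fun _ => rfl }
  let tR : (op Γ(Y, ⊤) ⟶ op R) ≃ (R →+* Γ(Y, ⊤)) :=
    { toFun := fun f => f.unop.hom, invFun := fun f => (CommRingCat.ofHom f).op,
      left_inv := fun _ => rfl, right_inv := fun _ => rfl }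
  have h3 : (fun g : op Γ(Y, ⊤) ⟶ op L => g ≫ i.op) = tR.symm ∘ (fun f : L →+* Γ(Y, ⊤) => f.comp i.hom) ∘ tL := by
    funext g; rfl
  rw [h3]
  exact tR.symm.bijective.comp (h1.comp tL.bijective)

section Perfection

variable {X XP : Scheme.{u}} [IsCharP XP p] {π : XP ⟶ X}

theorem isPerfection_of_isPullback {U UP : Scheme.{u}} [IsCharP UP p] {j' : UP ⟶ XP} {πU : UP ⟶ U} {j : U ⟶ X}
    (h : IsPullback j' πU π j) (hπ : IsPerfection π p) (hUP : IsPerfect UP p) : IsPerfection πU p := by
  refine ⟨hUP, fun Y _ hY => ?_⟩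
  have hb := hπ.2 Y hY
  constructor
  · intro a b hab
    refine h.hom_ext (hb.1 ?_) hab
    dsimp only at hab ⊢
    rw [Category.assoc, Category.assoc, h.w, reassoc_of% hab]
  · intro g
    obtain ⟨g', hg'⟩ := hb.2 (g ≫ j)
    exact ⟨h.lift g' g hg', h.lift_snd _ _ _⟩

theorem isPerfection_comp_iso {X' : Scheme.{u}} (hπ : IsPerfection π p) (e : X ≅ X') :
    IsPerfection (π ≫ e.hom) p := by
  refine ⟨hπ.1, fun Y _ hY => ?_⟩
  have hb := hπ.2 Y hY
  constructor
  · intro a b hab
    refine hb.1 ?_
    simpa using hab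
  · intro g
    obtain ⟨g', hg'⟩ := hb.2 (g ≫ e.inv)
    exact ⟨g', by simp [reassoc_of% hg']⟩

theorem isPerfection_iso_comp {XP' : Scheme.{u}} [IsCharP XP' p] (hπ : IsPerfection π p) (e : XP' ≅ XP) :
    IsPerfection (e.hom ≫ π) p := by
  refine ⟨isPerfect_of_iso e hπ.1, fun Y _ hY => ?_⟩
  have hb := hπ.2 Y hY
  constructor
  · intro a b hab
    rw [← cancel_mono e.hom]
    refine hb.1 ?_
    simpa using hab
  · intro g
    obtain ⟨g', hg'⟩ := hb.2 g
    exact ⟨g' ≫ e.inv, by simpa using hg'⟩

theorem isPerfection_exists_iso {XP' : Scheme.{u}} [IsCharP XP' p] {π' : XP' ⟶ X} (hπ : IsPerfection π p)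
    (hπ' : IsPerfection π' p) : ∃ e : XP ≅ XP', e.hom ≫ π' = π := by
  obtain ⟨a, ha⟩ := (hπ'.2 XP hπ.1).2 π
  obtain ⟨b, hb⟩ := (hπ.2 XP' hπ'.1).2 π'
  dsimp only at ha hb
  refine ⟨⟨a, b, (hπ.2 XP hπ.1).1 ?_, (hπ'.2 XP' hπ'.1).1 ?_⟩, ha⟩
  · simp [hb, ha]
  · simp [hb, ha]

instance isCharP_opens (X : Scheme.{u}) [IsCharP X p] (U : X.Opens) : IsCharP U.toScheme p :=
  IsCharP.of_hom U.ι p

theorem isPerfection_restrict (hπ : IsPerfection π p) (U : X.Opens) : IsPerfection (π ∣_ U) p :=
  isPerfection_of_isPullback (isPullback_morphismRestrict π U).flip hπ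
    (isPerfect_of_isOpenImmersion (π ⁻¹ᵁ U).ι hπ.1)

end Perfection

end K818.Basic
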