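import Groth.Agent.PerfSch.K818.Ring
import Mathlib.RingTheory.LocalRing.ResidueField.Ideal
import Mathlib.RingTheory.Ideal.GoingUp
import Mathlib.RingTheory.TensorProduct.Maps
import Mathlib.RingTheory.Ideal.MinimalPrime.Basic
import Mathlib.LinearAlgebra.Basis.VectorSpace
import Mathlib.RingTheory.Spectrum.Prime.Topology

/-!
# Radicial integral maps of perfect rings are isomorphisms

`bijective_of_perfRing`: `A → B` an integral map of perfect rings of characteristic `p`, surjective on spectra and
such that ring maps from `B` to fields are determined by their restriction to `A`; then `A → B` is bijective.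
-/

set_option autoImplicit false
set_option linter.unusedSectionVars false
universe u

open TensorProduct

namespace K818.EpiRing

open K818.Ring

variable {p : ℕ} [Fact p.Prime]

section

variable {A B : Type u} [CommRing A] [CommRing B] [Algebra A B]

theorem isNilpotent_tmul_sub
    (hK : ∀ (K : Type u) [Field K] (g₁ g₂ : B →+* K), g₁.comp (algebraMap A B) = g₂.comp (algebraMap A B) → g₁ = g₂)
    (b : B) : IsNilpotent (b ⊗ₜ[A] (1 : B) - (1 : B) ⊗ₜ[A] b) := by
  rw [nilpotent_iff_mem_prime]
  intro P hP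
  let g : B ⊗[A] B →+* P.ResidueField := algebraMap _ _
  have h := hK P.ResidueField (g.comp Algebra.TensorProduct.includeLeftRingHom)
    (g.comp (Algebra.TensorProduct.includeRight : B →ₐ[A] B ⊗[A] B).toRingHom) (by
      ext a
      simp only [RingHom.comp_apply]
      congr 1
      exact Algebra.TensorProduct.tmul_one_eq_one_tmul a)
  have h1 : g (b ⊗ₜ 1) = g (1 ⊗ₜ b) := congr($h b)
  rw [← Ideal.algebraMap_residueField_eq_zero (I := P), map_sub, sub_eq_zero]
  exact h1

theorem exists_tmul_pow_eq (hA : (p : A) = 0)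
    (hK : ∀ (K : Type u) [Field K] (g₁ g₂ : B →+* K), g₁.comp (algebraMap A B) = g₂.comp (algebraMap A B) → g₁ = g₂)
    (b : B) : ∃ k : ℕ, (b ^ p ^ k) ⊗ₜ[A] (1 : B) = (1 : B) ⊗ₜ[A] (b ^ p ^ k) := by
  obtain ⟨k, hk⟩ := isNilpotent_tmul_sub hK b
  have h0 : (p : B ⊗[A] B) = 0 := natCast_eq_zero_of_hom (algebraMap A (B ⊗[A] B)) hA
  have h1 : (b ⊗ₜ[A] (1 : B) - (1 : B) ⊗ₜ[A] b) ^ p ^ k = 0 := by
    rw [← Nat.sub_add_cancel (Nat.lt_pow_self (Fact.out : p.Prime).one_lt (n := k)).le, pow_add, hk, mul_zero]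
  refine ⟨k, ?_⟩
  rw [sub_pow_p h0, sub_eq_zero, Algebra.TensorProduct.tmul_pow, Algebra.TensorProduct.tmul_pow, one_pow] at h1
  exact h1

theorem residue_step (hA : PerfRing p A) (hB : PerfRing p B)
    (hK : ∀ (K : Type u) [Field K] (g₁ g₂ : B →+* K), g₁.comp (algebraMap A B) = g₂.comp (algebraMap A B) → g₁ = g₂)
    (q : Ideal B) [q.IsPrime] (b : B) :
    ∃ s a : A, algebraMap A B s ∉ q ∧ algebraMap A B s * b - algebraMap A B a ∈ q := by
  obtain ⟨k, hk⟩ := exists_tmul_pow_eq hA.zero hK b
  let p' : Ideal A := q.comap (algebraMap A B)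
  have hp' : p'.IsPrime := Ideal.comap_isPrime _ _
  let ι : p'.ResidueField →+* q.ResidueField := Ideal.ResidueField.map p' q (algebraMap A B) rfl
  let _ : Algebra p'.ResidueField q.ResidueField := ι.toAlgebra
  let g : B →+* q.ResidueField := algebraMap _ _
  have hι : ∀ a : A, ι (algebraMap A _ a) = g (algebraMap A B a) := fun a =>
    Ideal.ResidueField.map_algebraMap p' q (algebraMap A B) rfl a
  obtain ⟨ℓ, hℓ⟩ := LinearMap.exists_leftInverse_of_injective
    (Algebra.linearMap p'.ResidueField q.ResidueField) (LinearMap.ker_eq_bot.mpr ι.injective)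
  have hℓ1 : ℓ 1 = 1 := by
    have := congr($hℓ 1)
    simpa using this
  have hsm : ∀ (a : A) (x : q.ResidueField), a • x = g (algebraMap A B a) * x := by
    intro a x
    rw [Algebra.smul_def, IsScalarTower.algebraMap_apply A B q.ResidueField]
  let Λ₀ : B →ₗ[A] B →ₗ[A] q.ResidueField := LinearMap.mk₂ A (fun x y => g x * ι (ℓ (g y)))
    (fun x x' y => by rw [map_add, add_mul])
    (fun a x y => by rw [hsm, Algebra.smul_def, map_mul, mul_assoc])
    (fun x y y' => by rw [map_add, map_add, map_add, mul_add])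
    (fun a x y => by
      rw [hsm, Algebra.smul_def, map_mul, ← hι]
      have h2 : ι (algebraMap A _ a) * g y = (algebraMap A p'.ResidueField a) • g y := rfl
      rw [h2, map_smul, smul_eq_mul, map_mul]
      ring)
  have h3 := congrArg (TensorProduct.lift Λ₀) hk
  rw [TensorProduct.lift.tmul, TensorProduct.lift.tmul] at h3
  have h4 : g (b ^ p ^ k) = ι (ℓ (g (b ^ p ^ k))) := by
    have h5 : g (b ^ p ^ k) * ι (ℓ (g 1)) = g 1 * ι (ℓ (g (b ^ p ^ k))) := h3
    rw [map_one g, hℓ1, map_one ι, mul_one, one_mul] at h5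
    exact h5
  obtain ⟨x, y, hy, hxy⟩ := IsFractionRing.div_surjective (A := A ⧸ p') (ℓ (g (b ^ p ^ k)))
  obtain ⟨a, rfl⟩ := Ideal.Quotient.mk_surjective x
  obtain ⟨s, rfl⟩ := Ideal.Quotient.mk_surjective y
  have hs : s ∉ p' := by
    intro hs
    rw [Ideal.Quotient.eq_zero_iff_mem.mpr hs] at hy
    exact zero_notMem_nonZeroDivisors hy
  have ha' : algebraMap (A ⧸ p') p'.ResidueField (Ideal.Quotient.mk p' a) = algebraMap A _ a := rfl
  have hs' : algebraMap (A ⧸ p') p'.ResidueField (Ideal.Quotient.mk p' s) = algebraMap A _ s := rfl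
  rw [← hxy, map_div₀, ha', hs', hι, hι] at h4
  have hgs : g (algebraMap A B s) ≠ 0 := by
    intro h
    exact hs (show algebraMap A B s ∈ q from (Ideal.algebraMap_residueField_eq_zero (I := q)).mp h)
  rw [eq_div_iff hgs] at h4
  -- take roots
  refine ⟨hA.root k s, hA.root k a, ?_, ?_⟩
  · intro h
    apply hs
    show algebraMap A B s ∈ q
    rw [← hA.root_pow k s, map_pow]
    exact Ideal.pow_mem_of_mem _ h _ (pow_pos (Fact.out : p.Prime).pos k)
  · rw [← Ideal.algebraMap_residueField_eq_zero (I := q)]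
    have hq0 : (p : q.ResidueField) = 0 := natCast_eq_zero_of_hom g hB.zero
    have h6 : (g (algebraMap A B (hA.root k s) * b - algebraMap A B (hA.root k a))) ^ p ^ k = 0 := by
      rw [map_sub, map_mul, sub_pow_p hq0, mul_pow, ← map_pow, ← map_pow, ← map_pow, ← map_pow, hA.root_pow,
        ← map_pow, hA.root_pow, mul_comm, h4, sub_self]
    exact eq_zero_of_pow_eq_zero h6

theorem mem_range_of_pow (hA : PerfRing p A) (hB : PerfRing p B) {x : B} {n : ℕ}
    (h : x ^ p ^ n ∈ (algebraMap A B).range) : x ∈ (algebraMap A B).range := by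
  obtain ⟨a, ha⟩ := h
  refine ⟨hA.root n a, hB.pow_inj (n := n) ?_⟩
  rw [← map_pow, hA.root_pow, ha]

/-- The subalgebra of elements which are multiplied into the image of `A` by a power of `u`. -/
def denSub (A B : Type u) [CommRing A] [CommRing B] [Algebra A B] (u : A) : Subalgebra A B where
  carrier := {x | ∃ d : ℕ, algebraMap A B (u ^ d) * x ∈ (algebraMap A B).range}
  mul_mem' := by
    rintro x y ⟨d, a, ha⟩ ⟨e, b, hb⟩
    refine ⟨d + e, a * b, ?_⟩
    rw [map_mul, ha, hb, pow_add, map_mul]
    ring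
  add_mem' := by
    rintro x y ⟨d, a, ha⟩ ⟨e, b, hb⟩
    refine ⟨d + e, u ^ e * a + u ^ d * b, ?_⟩
    rw [map_add, map_mul, map_mul, ha, hb, pow_add, map_mul]
    ring
  algebraMap_mem' a := ⟨0, a, by simp⟩

theorem surjective_of_perfRing (hA : PerfRing p A) (hB : PerfRing p B) [Algebra.IsIntegral A B]
    (hsurj : Function.Surjective (PrimeSpectrum.comap (algebraMap A B)))
    (hinj : Function.Injective (PrimeSpectrum.comap (algebraMap A B)))
    (hK : ∀ (K : Type u) [Field K] (g₁ g₂ : B →+* K), g₁.comp (algebraMap A B) = g₂.comp (algebraMap A B) → g₁ = g₂) :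
    Function.Surjective (algebraMap A B) := by
  intro b
  change b ∈ (algebraMap A B).range
  let B' : Subalgebra A B := Algebra.adjoin A {b}
  have hfin : (Subalgebra.toSubmodule B').FG := (Algebra.IsIntegral.isIntegral (R := A) b).fg_adjoin_singleton
  have hbB' : b ∈ B' := Algebra.self_mem_adjoin_singleton A b
  let J : Ideal A :=
    { carrier := {a | ∀ x ∈ B', algebraMap A B a * x ∈ (algebraMap A B).range}
      add_mem' := by
        intro a a' ha ha' x hx
        rw [map_add, add_mul]
        exact add_mem (ha x hx) (ha' x hx)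
      zero_mem' := by
        intro x _
        rw [map_zero, zero_mul]
        exact zero_mem _
      smul_mem' := by
        intro c a ha x hx
        rw [smul_eq_mul, map_mul, mul_assoc]
        exact mul_mem ⟨c, rfl⟩ (ha x hx) }
  have hJ : ∀ a, a ∈ J ↔ ∀ x ∈ B', algebraMap A B a * x ∈ (algebraMap A B).range := fun a => Iff.rfl
  by_cases hJtop : J = ⊤
  · have h1 : (1 : A) ∈ J := by rw [hJtop]; trivial
    have h2 := (hJ 1).mp h1 b hbB'
    rwa [map_one, one_mul] at h2
  exfalso
  obtain ⟨m, hm, hJm⟩ := Ideal.exists_le_maximal J hJtop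
  have := hm.isPrime
  obtain ⟨P, hP, -⟩ := Ideal.exists_minimalPrimes_le hJm
  have hPp : P.IsPrime := hP.1.1
  obtain ⟨⟨q, hq⟩, hqP⟩ := hsurj ⟨P, hPp⟩
  have hqP' : q.comap (algebraMap A B) = P := congrArg PrimeSpectrum.asIdeal hqP
  obtain ⟨s, a, hs, hc⟩ := residue_step hA hB hK q b
  have hsP : s ∉ P := by
    intro h
    rw [← hqP'] at h
    exact hs h
  set c : B := algebraMap A B s * b - algebraMap A B a with hcdef
  have hcB' : c ∈ B' := sub_mem (mul_mem (B'.algebraMap_mem s) hbB') (B'.algebraMap_mem a)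
  -- elements of the extended ideal are in the image of `A`
  let J' : Ideal B' := J.map (algebraMap A B')
  have hJ' : ∀ x ∈ J', ∀ z ∈ B', z * ((x : B') : B) ∈ (algebraMap A B).range := by
    intro x hx
    refine Submodule.span_induction (p := fun (x : B') _ => ∀ z ∈ B', z * (x : B) ∈ (algebraMap A B).range)
      ?_ ?_ ?_ ?_ hx
    · rintro _ ⟨y, hy, rfl⟩ z hz
      rw [mul_comm]
      exact (hJ y).mp hy z hz
    · intro z _
      rw [ZeroMemClass.coe_zero, mul_zero]
      exact zero_mem _
    · intro x y _ _ hx hy z hz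
      rw [AddMemClass.coe_add, mul_add]
      exact add_mem (hx z hz) (hy z hz)
    · intro z' x _ hx z hz
      rw [smul_eq_mul, MulMemClass.coe_mul, ← mul_assoc]
      exact hx _ (mul_mem hz z'.2)
  let c' : B' := ⟨c, hcB'⟩
  -- some `φ(t) c ^ n` lies in the extended ideal
  have key : ∃ t ∉ P, ∃ n : ℕ, algebraMap A B' t * c' ^ n ∈ J' := by
    by_contra hcon
    push Not at hcon
    let M : Submonoid B' :=
      { carrier := {x | ∃ t ∉ P, ∃ n : ℕ, x = algebraMap A B' t * c' ^ n}
        mul_mem' := by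
          rintro _ _ ⟨t, ht, n, rfl⟩ ⟨t', ht', n', rfl⟩
          refine ⟨t * t', fun h => (hPp.mem_or_mem h).elim ht ht', n + n', ?_⟩
          rw [map_mul, pow_add]
          ring
        one_mem' := ⟨1, fun h => hPp.ne_top ((Ideal.eq_top_iff_one P).mpr h), 0, by simp⟩ }
    have hdisj : Disjoint (J' : Set B') M := by
      rw [Set.disjoint_left]
      rintro _ hx ⟨t, ht, n, rfl⟩
      exact hcon t ht n hx
    obtain ⟨r, hr, hJr, hrM⟩ := Ideal.exists_le_prime_disjoint J' M hdisj
    have h1 : r.comap (algebraMap A B') = P := by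
      have h2 : r.comap (algebraMap A B') ≤ P := by
        intro t ht
        by_contra htP
        refine Set.disjoint_left.mp hrM ht ⟨t, htP, 0, by simp⟩
      refine le_antisymm h2 (hP.2 ⟨Ideal.comap_isPrime _ _, ?_⟩ h2)
      exact Ideal.le_comap_of_map_le hJr
    have hint : Algebra.IsIntegral B' B := Algebra.IsIntegral.tower_top A
    have hsurj' : Function.Surjective (PrimeSpectrum.comap (algebraMap B' B)) :=
      RingHom.IsIntegral.comap_surjective (algebraMap_isIntegral_iff.mpr hint) Subtype.val_injective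
    obtain ⟨r', hr'⟩ := hsurj' ⟨r, hr⟩
    have hr'1 : r'.asIdeal.comap (algebraMap B' B) = r := congrArg PrimeSpectrum.asIdeal hr'
    have h3 : PrimeSpectrum.comap (algebraMap A B) r' = ⟨P, hPp⟩ := by
      ext1
      change r'.asIdeal.comap (algebraMap A B) = P
      rw [← h1, ← hr'1, Ideal.comap_comap]
      rfl
    have h4 : r' = ⟨q, hq⟩ := hinj (h3.trans hqP.symm)
    have h5 : c' ∈ r := by
      rw [← hr'1, h4]
      exact hc
    exact Set.disjoint_left.mp hrM h5 ⟨1, fun h => hPp.ne_top ((Ideal.eq_top_iff_one P).mpr h), 1, by simp⟩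
  obtain ⟨t, ht, n, htn⟩ := key
  -- `φ(t) c` is in the image of `A`
  have h6 : algebraMap A B t * c ∈ (algebraMap A B).range := by
    refine mem_range_of_pow hA hB (n := n) ?_
    have h7 : (algebraMap A B t * c) ^ p ^ n =
        (algebraMap A B t ^ (p ^ n - 1) * c ^ (p ^ n - n)) * (algebraMap A B t * c ^ n) := by
      have e1 : p ^ n = (p ^ n - n) + n := (Nat.sub_add_cancel (Nat.lt_pow_self (Fact.out : p.Prime).one_lt (n := n)).le).symm
      have e2 : p ^ n = (p ^ n - 1) + 1 := (Nat.sub_add_cancel (pow_pos (Fact.out : p.Prime).pos n)).symm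
      calc (algebraMap A B t * c) ^ p ^ n = algebraMap A B t ^ p ^ n * c ^ p ^ n := mul_pow _ _ _
        _ = algebraMap A B t ^ ((p ^ n - 1) + 1) * c ^ ((p ^ n - n) + n) := by rw [← e1, ← e2]
        _ = _ := by rw [pow_add, pow_add]; ring
    rw [h7]
    exact hJ' _ htn _ (mul_mem (pow_mem (B'.algebraMap_mem t) _) (pow_mem hcB' _))
  -- hence `φ(ts) b` is in the image of `A`
  let u : A := t * s
  have hu : u ∉ P := fun h => (hPp.mem_or_mem h).elim ht hsP
  have h8 : algebraMap A B u * b ∈ (algebraMap A B).range := by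
    have : algebraMap A B u * b = algebraMap A B t * c + algebraMap A B (t * a) := by
      rw [hcdef, map_mul, map_mul]; ring
    rw [this]
    exact add_mem h6 ⟨_, rfl⟩
  have h9 : B' ≤ denSub A B u := by
    refine Algebra.adjoin_le ?_
    rw [Set.singleton_subset_iff]
    exact ⟨1, by rwa [pow_one]⟩
  obtain ⟨S, hS⟩ := hfin
  have h10 : ∀ x ∈ S, ∃ d : ℕ, algebraMap A B (u ^ d) * x ∈ (algebraMap A B).range := fun x hx =>
    h9 (by
      have : x ∈ Subalgebra.toSubmodule B' := by rw [← hS]; exact Submodule.subset_span hx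
      exact this)
  choose! d hd using h10
  let D := ∑ x ∈ S, d x
  have h11 : u ^ D ∈ J := by
    rw [hJ]
    intro x hx
    have hx' : x ∈ Submodule.span A (S : Set B) := by rw [hS]; exact hx
    refine Submodule.span_induction (p := fun (x : B) _ => algebraMap A B (u ^ D) * x ∈ (algebraMap A B).range)
      ?_ ?_ ?_ ?_ hx'
    · intro x hx
      have h12 : d x ≤ D := Finset.single_le_sum (f := d) (fun _ _ => Nat.zero_le _) hx
      rw [← Nat.sub_add_cancel h12, pow_add, map_mul, mul_assoc]
      exact mul_mem ⟨_, rfl⟩ (hd x hx)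
    · rw [mul_zero]; exact zero_mem _
    · intro x y _ _ hx hy
      rw [mul_add]; exact add_mem hx hy
    · intro a x _ hx
      rw [Algebra.smul_def, ← mul_assoc, mul_comm (algebraMap A B _) (algebraMap A B a), mul_assoc]
      exact mul_mem ⟨_, rfl⟩ hx
  exact hu (hPp.mem_of_pow_mem _ (hP.1.2 h11))

/-- An integral radicial surjective map of perfect rings is bijective. -/
theorem bijective_of_perfRing (hA : PerfRing p A) (hB : PerfRing p B) [Algebra.IsIntegral A B]
    (hsurj : Function.Surjective (PrimeSpectrum.comap (algebraMap A B)))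
    (hinj : Function.Injective (PrimeSpectrum.comap (algebraMap A B)))
    (hK : ∀ (K : Type u) [Field K] (g₁ g₂ : B →+* K), g₁.comp (algebraMap A B) = g₂.comp (algebraMap A B) → g₁ = g₂) :
    Function.Bijective (algebraMap A B) := by
  refine ⟨?_, surjective_of_perfRing hA hB hsurj hinj hK⟩
  rw [injective_iff_map_eq_zero]
  intro a ha
  have := hA.isReduced
  refine IsNilpotent.eq_zero (nilpotent_iff_mem_prime.mpr fun P hP => ?_)
  obtain ⟨⟨q, hq⟩, hqP⟩ := hsurj ⟨P, hP⟩
  have hqP' : q.comap (algebraMap A B) = P := congrArg PrimeSpectrum.asIdeal hqP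
  rw [← hqP', Ideal.mem_comap, ha]
  exact q.zero_mem

end

end K818.EpiRing
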