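import Groth.Agent.PerfSch.K818.Ring
import Groth.Agent.Sga5.RelFrobEtale

/-!
# Étale algebras over perfect rings are perfect
-/

set_option autoImplicit false
set_option linter.unusedSectionVars false
universe u

open TensorProduct

namespace K818.EtaleRing

open K818.Ring

variable {p : ℕ} [Fact p.Prime]

theorem perfRing_of_etale (A B : Type u) [CommRing A] [CommRing B] [Algebra A B] [Algebra.Etale A B]
    (hA : PerfRing p A) : PerfRing p B := by
  rcases subsingleton_or_nontrivial B with hB | hB
  · exact .of_subsingleton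
  have hA' : Nontrivial A := (algebraMap A B).domain_nontrivial
  have : CharP A p := charP_of hA.zero
  have hB0 : (p : B) = 0 := natCast_eq_zero_of_hom (algebraMap A B) hA.zero
  have : CharP B p := charP_of hB0
  have h1 := Groth.Agent.Sga5.RelFrobEtale.relFrob_bijective p A B inferInstance
  have h2 : Function.Bijective (algebraMap A (FrobAlg.Twist p A)) := hA.bij
  let e : A ≃ₐ[A] FrobAlg.Twist p A := AlgEquiv.ofBijective (Algebra.ofId A (FrobAlg.Twist p A)) h2
  let g : B ≃ₐ[A] B ⊗[A] FrobAlg.Twist p A :=
    (Algebra.TensorProduct.rid A A B).symm.trans (Algebra.TensorProduct.congr (AlgEquiv.refl (A₁ := B)) e)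
  have hg : ∀ b, g b = b ⊗ₜ[A] (1 : FrobAlg.Twist p A) := by
    intro b
    change (Algebra.TensorProduct.congr (AlgEquiv.refl (A₁ := B)) e) (b ⊗ₜ 1) = _
    rw [Algebra.TensorProduct.congr_apply, Algebra.TensorProduct.map_tmul]
    simp
  refine ⟨hB0, ?_⟩
  have h3 : (fun b : B => b ^ p) = FrobAlg.relFrob p A B ∘ g := by
    funext b
    rw [Function.comp_apply, hg]
    exact (Groth.Agent.Sga5.RelFrob.relFrob_tmul_one p A B b).symm
  rw [h3]
  exact h1.comp g.bijective

end K818.EtaleRing
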