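import Groth.Agent.PerfSch.K818.Ring
import Mathlib.RingTheory.Flat.EquationalCriterion
import Mathlib.RingTheory.RingHom.Flat

/-!
# Perfect closures of flat maps are flat (zero rings allowed)
-/

set_option autoImplicit false
set_option linter.unusedSectionVars false
universe u

namespace K818.FlatRing

open K818.Ring

variable {p : ℕ} [Fact p.Prime]

theorem sum_pow_p {R : Type*} [CommRing R] (h : (p : R) = 0) {ι : Type*} (s : Finset ι) (f : ι → R) (n : ℕ) :
    (∑ i ∈ s, f i) ^ p ^ n = ∑ i ∈ s, f i ^ p ^ n := by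
  classical
  induction s using Finset.induction_on with
  | empty => simp [zero_pow (pow_ne_zero n (Fact.out : p.Prime).ne_zero)]
  | insert a s ha ih => rw [Finset.sum_insert ha, Finset.sum_insert ha, add_pow_p h, ih]

theorem exists_max {ι : Type*} [Finite ι] (n : ι → ℕ) : ∃ N, ∀ i, n i ≤ N := by
  have := Fintype.ofFinite ι
  exact ⟨∑ i, n i, fun i => Finset.single_le_sum (f := n) (fun _ _ => Nat.zero_le _) (Finset.mem_univ i)⟩

theorem exists_uniform {R L : Type*} [CommRing R] [CommRing L] (i : R →+* L) [IsPRadical i p] {ι : Type*}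
    [Finite ι] (x : ι → L) : ∃ (N : ℕ) (y : ι → R), ∀ k, i (y k) = x k ^ p ^ N := by
  choose n y hy using fun k => IsPRadical.pow_mem i p (x k)
  obtain ⟨N, hN⟩ := exists_max n
  refine ⟨N, fun k => y k ^ p ^ (N - n k), fun k => ?_⟩
  rw [map_pow, hy, ← pow_mul, ← pow_add, Nat.add_sub_cancel' (hN k)]

/-- The perfect closure of a flat map is flat. -/
theorem flat_of_flat {A B A' B' : Type*} [CommRing A] [CommRing B] [CommRing A'] [CommRing B']
    (hA : (p : A) = 0) (hA' : PerfRing p A') (hB' : PerfRing p B')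
    (φ : A →+* B) (hflat : φ.Flat) (i : A →+* A') (j : B →+* B') [IsPRadical i p] [IsPRadical j p]
    (φ' : A' →+* B') (hφ : φ'.comp i = j.comp φ) : φ'.Flat := by
  let _ := φ.toAlgebra
  let _ := φ'.toAlgebra
  have hfl : Module.Flat A B := hflat
  have hB : (p : B) = 0 := natCast_eq_zero_of_hom φ hA
  have hc : ∀ a, φ' (i a) = j (φ a) := fun a => congr($hφ a)
  change Module.Flat A' B'
  rw [Module.Flat.iff_forall_isTrivialRelation]
  intro l f x hx
  obtain ⟨N₁, α, hα⟩ := exists_uniform i f (p := p)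
  obtain ⟨N₂, β, hβ⟩ := exists_uniform j x (p := p)
  -- common exponent
  obtain ⟨N, α, β, hα, hβ⟩ : ∃ (N : ℕ) (α : Fin l → A) (β : Fin l → B), (∀ k, i (α k) = f k ^ p ^ N) ∧
      (∀ k, j (β k) = x k ^ p ^ N) := by
    refine ⟨N₁ + N₂, fun k => α k ^ p ^ N₂, fun k => β k ^ p ^ N₁, fun k => ?_, fun k => ?_⟩
    · rw [map_pow, hα, ← pow_mul, ← pow_add]
    · rw [map_pow, hβ, ← pow_mul, ← pow_add, add_comm]
  have hx' : ∑ k, φ' (f k) * x k = 0 := hx
  have h1 : j (∑ k, φ (α k) * β k) = 0 := by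
    rw [map_sum]
    simp only [map_mul, ← hc, hα, hβ, map_pow, ← mul_pow]
    rw [← sum_pow_p hB'.zero, hx']
    exact zero_pow (pow_ne_zero _ (Fact.out : p.Prime).ne_zero)
  obtain ⟨M, hM⟩ := mem_pNilradical.mp (IsPRadical.ker_le j p (show _ ∈ RingHom.ker j from h1))
  rw [sum_pow_p hB] at hM
  have h2 : ∑ k, (α k ^ p ^ M) • (β k ^ p ^ M) = 0 := by
    rw [← hM]
    refine Finset.sum_congr rfl fun k _ => ?_
    rw [Algebra.smul_def, mul_pow, map_pow]
    rfl
  obtain ⟨m, a, y, hy, ha⟩ := (Module.Flat.iff_forall_isTrivialRelation (R := A) (M := B)).mp hfl h2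
  refine ⟨m, fun k t => hA'.root (N + M) (i (a k t)), fun t => hB'.root (N + M) (j (y t)), fun k => ?_, fun t => ?_⟩
  · refine hB'.pow_inj (n := N + M) ?_
    rw [sum_pow_p hB'.zero]
    have h3 : x k ^ p ^ (N + M) = j (β k ^ p ^ M) := by
      rw [map_pow, hβ, ← pow_mul, ← pow_add]
    have h5 : β k ^ p ^ M = ∑ t, a k t • y t := hy k
    rw [h3, h5, map_sum]
    refine Finset.sum_congr rfl fun t _ => ?_
    rw [Algebra.smul_def, Algebra.smul_def, mul_pow, ← map_pow, hA'.root_pow, hB'.root_pow, map_mul]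
    exact congrArg (· * j (y t)) (hc (a k t)).symm
  · refine hA'.pow_inj (n := N + M) ?_
    rw [sum_pow_p hA'.zero, zero_pow (pow_ne_zero _ (Fact.out : p.Prime).ne_zero)]
    have h6 : ∑ k, α k ^ p ^ M * a k t = 0 := ha t
    have h4 := congrArg i h6
    rw [map_sum, map_zero] at h4
    rw [← h4]
    refine Finset.sum_congr rfl fun k _ => ?_
    rw [mul_pow, hA'.root_pow, map_mul, map_pow, hα, ← pow_mul, ← pow_add]

end K818.FlatRing
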