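import Groth.Agent.PerfSch.K818.PerfLim
import Groth.Agent.CalgA.RelApprox
import Groth.Agent.Smoothlim.AffineApprox2

/-!
# A retract of the perfection of a finitely presented scheme has a finitely presented model
-/

set_option autoImplicit false
set_option linter.unusedSectionVars false
set_option backward.isDefEq.respectTransparency false
universe u

open CategoryTheory CategoryTheory.Limits AlgebraicGeometry Opposite TopologicalSpace

namespace K818.Model

open FrobSch K818.Basic K818.Tower K818.PerfLim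

variable (p : ℕ) [Fact p.Prime]

/-- The spectrum of the prime field. -/
noncomputable abbrev SF : Scheme.{u} := Spec (CommRingCat.of (ULift.{u} (ZMod p)))

instance isCharP_SF : IsCharP (SF.{u} p) p := isCharP_spec (by
  apply ULift.down_injective
  change ((p : ULift.{u} (ZMod p)) : ULift.{u} (ZMod p)).down = 0
  rw [ULift.down_natCast]
  exact ZMod.natCast_self p)

instance isNoetherianRing_uz : IsNoetherianRing (ULift.{u} (ZMod p)) :=
  isNoetherianRing_of_ringEquiv (ZMod p) ULift.ringEquiv.symm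

theorem ringHom_ext {R : Type*} [CommRing R] (f g : ULift.{u} (ZMod p) →+* R) : f = g := by
  have := Subsingleton.elim (f.comp (ULift.ringEquiv (R := ZMod p)).symm.toRingHom)
    (g.comp (ULift.ringEquiv (R := ZMod p)).symm.toRingHom)
  ext x
  exact DFunLike.congr_fun this x.down

variable {p} in
theorem hom_ext_SF {X : Scheme.{u}} (a b : X ⟶ SF.{u} p) : a = b := by
  refine ext_of_isAffine ?_
  rw [← cancel_epi (Scheme.ΓSpecIso _).inv]
  ext1
  exact ringHom_ext p _ _

theorem exists_hom (X : Scheme.{u}) [IsCharP X p] : Nonempty (X ⟶ SF.{u} p) := by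
  obtain ⟨q, hq⟩ := CharP.exists Γ(X, ⊤)
  have hqp : q ∣ p := (CharP.cast_eq_zero_iff Γ(X, ⊤) q p).1 IsCharP.natCast_eq_zero
  let φ : ULift.{u} (ZMod p) →+* Γ(X, ⊤) := (ZMod.castHom hqp Γ(X, ⊤)).comp ULift.ringEquiv.toRingHom
  exact ⟨X.toSpecΓ ≫ Spec.map (CommRingCat.ofHom φ)⟩

/-- Approximation of a qcqs scheme of characteristic `p` by schemes of finite type over the prime field. -/
theorem exists_approx (X : Scheme.{u}) [IsCharP X p] [CompactSpace X] [QuasiSeparatedSpace X] :
    ∃ (I : Type u) (_ : Preorder I) (_ : IsDirected I (· ≤ ·)) (_ : Nonempty I)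
    (D : Iᵒᵖ ⥤ Scheme.{u}) (c : Cone D) (_ : IsLimit c) (s : ∀ i, D.obj i ⟶ SF.{u} p)
    (_ : c.pt ≅ X), (∀ (i j : Iᵒᵖ) (f : i ⟶ j), IsAffineHom (D.map f)) ∧
      ∀ i, CompactSpace (D.obj i) ∧ LocallyOfFiniteType (s i) := by
  have hrel : Groth.Agent.Smoothlim.AffineApprox2.RelApprox.{u} :=
    fun {X T} g _ _ ↦ Groth.Agent.CalgA.RelApprox.relApprox g
  obtain ⟨T₀, g₀, _, _, _⟩ := Groth.Agent.Smoothlim.AffineApprox2.exists_affine_to_finiteType_of hrel X
  obtain ⟨sX⟩ := exists_hom p X
  let a : T₀ ⟶ _ := specULiftZIsTerminal.from T₀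
  let b : SF.{u} p ⟶ _ := specULiftZIsTerminal.from (SF.{u} p)
  let T := pullback a b
  let g : X ⟶ T := pullback.lift g₀ sX (specULiftZIsTerminal.hom_ext _ _)
  let s : T ⟶ SF.{u} p := pullback.snd a b
  have hb : IsAffineHom b := by infer_instance
  have hg0 : g ≫ pullback.fst a b = g₀ := pullback.lift_fst _ _ _
  have : IsAffineHom (g ≫ pullback.fst a b) := by rw [hg0]; infer_instance
  have hg : IsAffineHom g := IsAffineHom.of_comp g (pullback.fst a b)
  have hT : IsLocallyNoetherian T := LocallyOfFiniteType.isLocallyNoetherian s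
  have hTc : CompactSpace T := QuasiCompact.compactSpace_of_compactSpace (pullback.fst a b)
  have hT' : IsNoetherian T := ⟨⟩
  obtain ⟨I, h1, h2, h3, D, c, hc, t, e, hD, ht, -⟩ := hrel g
  refine ⟨I, h1, h2, h3, D, c, hc, fun i => (show D.obj i ⟶ T from t.app i) ≫ s, e, hD, fun i => ?_⟩
  have ha : IsAffineHom (Y := T) (t.app i) := (ht i).1
  have hf : LocallyOfFiniteType (Y := T) (t.app i) := (ht i).2
  exact ⟨QuasiCompact.compactSpace_of_compactSpace (Y := T) (t.app i), inferInstance⟩

/-- The structure maps of the Frobenius tower. -/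
noncomputable def towerT {C : Scheme.{u}} [IsCharP C p] (s : C ⟶ SF.{u} p) :
    towerD C p ⟶ (Functor.const _).obj (SF.{u} p) where
  app _ := s
  naturality _ _ _ := hom_ext_SF _ _

/-- A retract of the perfection of a scheme of finite presentation over the prime field is the perfection of a
scheme of finite presentation over the prime field. -/
theorem exists_model {C Z X : Scheme.{u}} [IsCharP C p] [IsCharP Z p] [IsCharP X p] (s : C ⟶ SF.{u} p)
    [LocallyOfFiniteType s] [CompactSpace C] {π : Z ⟶ C} (hπ : IsPerfection π p) (hX : IsPerfect X p)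
    (ι : X ⟶ Z) (r : Z ⟶ X) (hr : ι ≫ r = 𝟙 X) :
    ∃ (X0 : Scheme.{u}) (s : X0 ⟶ SF.{u} p) (_ : LocallyOfFinitePresentation s)
      (_ : CompactSpace X0) (_ : QuasiSeparatedSpace X0) (π : X ⟶ X0), IsPerfection π p := by
  have hC : IsLocallyNoetherian C := LocallyOfFiniteType.isLocallyNoetherian s
  have : LocallyOfFinitePresentation s := LocallyOfFinitePresentation.iff_locallyOfFiniteType.2 inferInstance
  have hCs : QuasiSeparatedSpace C := inferInstance
  have i1 (i : (ULift.{u} ℕ)ᵒᵖ) : CompactSpace ((towerD C p).obj i) := ‹CompactSpace C›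
  have i2 (i : (ULift.{u} ℕ)ᵒᵖ) : QuasiSeparatedSpace ((towerD C p).obj i) := hCs
  obtain ⟨⟨⟨m⟩⟩, e₀, h1, -⟩ := Scheme.exists_π_app_comp_eq_of_locallyOfFinitePresentation (towerD C p)
    (towerT p s) s (towerCone π hπ.1) (isLimitTowerCone hπ) (r ≫ ι ≫ π) (by
      ext j : 2
      exact hom_ext_SF _ _)
  have h2 : (leg (towerCone π hπ.1) m : Z ⟶ C) ≫ (show C ⟶ C from e₀) = r ≫ ι ≫ π := h1
  clear h1
  change C ⟶ C at e₀
  replace h2 : (leg (towerCone π hπ.1) m : Z ⟶ C) ≫ e₀ = r ≫ ι ≫ π := h2
  have h3 : π ≫ e₀ = r ≫ ι ≫ π ≫ frobIter C p m := by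
    have h4 := frobIter_towerCone (π := π) hπ.1 m
    have h5 : π ≫ e₀ = frobIter Z p m ≫ r ≫ ι ≫ π := by
      rw [← h2, ← Category.assoc, h4]
    rw [h5, frobIter_naturality]
    simp
  let d : C ⟶ pullback s s := pullback.lift e₀ (frobIter C p m) (hom_ext_SF _ _)
  let X0 : Scheme.{u} := pullback d (pullback.diagonal s)
  let j : X0 ⟶ C := pullback.fst _ _
  have hj : j ≫ e₀ = j ≫ frobIter C p m := by
    have h4 : j ≫ d = pullback.snd _ _ ≫ pullback.diagonal s := pullback.condition
    have h5 := congr($h4 ≫ pullback.fst s s)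
    have h6 := congr($h4 ≫ pullback.snd s s)
    simp only [Category.assoc, d, pullback.lift_fst, pullback.lift_snd, pullback.diagonal_fst,
      pullback.diagonal_snd, Category.comp_id] at h5 h6
    rw [h5, h6]
  have hlift {T : Scheme.{u}} (g : T ⟶ C) (hg : g ≫ e₀ = g ≫ frobIter C p m) : ∃ g' : T ⟶ X0, g' ≫ j = g := by
    refine ⟨pullback.lift g (g ≫ e₀) ?_, pullback.lift_fst _ _ _⟩
    ext
    · simp [d]
    · simp [d, hg]
  have : Mono j := inferInstance
  have : QuasiSeparated s := inferInstance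
  have : QuasiCompact j := inferInstance
  have : CompactSpace X0 := QuasiCompact.compactSpace_of_compactSpace j
  have : LocallyOfFiniteType j := inferInstance
  have : IsLocallyNoetherian X0 := LocallyOfFiniteType.isLocallyNoetherian j
  have : IsCharP X0 p := IsCharP.of_hom j p
  have hw : (ι ≫ π) ≫ e₀ = (ι ≫ π) ≫ frobIter C p m := by
    rw [Category.assoc, h3, reassoc_of% hr, Category.assoc]
  obtain ⟨q, hq⟩ := hlift (ι ≫ π) hw
  refine ⟨X0, j ≫ s, LocallyOfFinitePresentation.iff_locallyOfFiniteType.2 inferInstance, ‹_›, inferInstance,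
    q, hX, fun T _ hT => ⟨?_, ?_⟩⟩
  · intro a b hab
    have h5 : a ≫ ι ≫ π = b ≫ ι ≫ π := by
      dsimp only at hab
      rw [← hq, reassoc_of% hab]
    have h6 : a ≫ ι = b ≫ ι := hom_extP hπ hT (by simpa using h5)
    have h7 := congr($h6 ≫ r)
    rwa [Category.assoc, Category.assoc, hr, Category.comp_id, Category.comp_id] at h7
  · intro g
    let t : T ⟶ Z := lifP hπ hT (g ≫ j)
    have ht : t ≫ π = g ≫ j := lifP_comp _ _ _
    have h8 : t ≫ r ≫ ι ≫ π ≫ frobIter C p m = t ≫ π ≫ frobIter C p m := by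
      rw [← h3, reassoc_of% ht, reassoc_of% ht, hj]
    have h9 : t ≫ r ≫ ι = t := by
      refine hom_extP hπ hT ?_
      have := isIso_frobIter hT m
      rw [← cancel_epi (frobIter T p m), frobIter_naturality, frobIter_naturality]
      simpa using h8
    refine ⟨t ≫ r, ?_⟩
    change (t ≫ r) ≫ q = g
    rw [← cancel_mono j, Category.assoc, hq, Category.assoc]
    have h10 := congr($h9 ≫ π)
    simpa [ht] using h10

end K818.Model
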