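import Groth.Agent.PerfSch.K818.Affine
import Groth.Agent.Sga3.H771.QcDesc
import Mathlib.AlgebraicGeometry.Morphisms.Immersion
import Mathlib.AlgebraicGeometry.Morphisms.Proper

/-!
# Properties of morphisms and their perfections

`πX : XP ⟶ X`, `πY : YP ⟶ Y` perfections, `f : X ⟶ Y`, `fP : XP ⟶ YP` with `fP ≫ πY = πX ≫ f`.
-/

set_option autoImplicit false
set_option linter.unusedSectionVars false
set_option backward.isDefEq.respectTransparency false
universe u

open CategoryTheory CategoryTheory.Limits AlgebraicGeometry Opposite TopologicalSpace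

namespace K818.Morph

open FrobSch K818.Basic K818.Ring K818.Struct K818.Sections K818.Affine

variable {p : ℕ} [Fact p.Prime]

theorem isAffineHom_of_postcomp {XP X Y : Scheme.{u}} [IsCharP X p] (π : XP ⟶ X) [IsAffineHom π]
    (h : ∀ U : X.Opens, IsAffineOpen U → IsPRadical (π.app U).hom p) (f : X ⟶ Y) [IsAffineHom (π ≫ f)] :
    IsAffineHom f where
  isAffine_preimage U hU := by
    have h1 : IsAffine ((π ≫ f) ⁻¹ᵁ U).toScheme := hU.preimage (π ≫ f)
    have h2 : IsAffine (π ⁻¹ᵁ (f ⁻¹ᵁ U)).toScheme := h1
    have h3 : ∀ V : (f ⁻¹ᵁ U).toScheme.Opens, IsAffineOpen V → IsPRadical ((π ∣_ (f ⁻¹ᵁ U)).app V).hom p := by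
      intro V hV
      rw [morphismRestrict_app]
      simp only [CommRingCat.hom_comp]
      exact isPRadical_comp _ _ (h _ (hV.image_of_isOpenImmersion _))
        (isPRadical_of_bijective _ ((ConcreteCategory.isIso_iff_bijective _).mp inferInstance))
    have h4 : IsAffineHom (π ∣_ (f ⁻¹ᵁ U)) := IsZariskiLocalAtTarget.restrict ‹IsAffineHom π› _
    exact isAffine_of_isPRadical (p := p) (π ∣_ (f ⁻¹ᵁ U)) h3

theorem isSeparated_of_surjective_comp {X Y S : Scheme.{u}} (r : X ⟶ Y) (q : Y ⟶ S)
    [Surjective r] [UniversallyClosed r] [IsSeparated (r ≫ q)] : IsSeparated q := by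
  have h1 : UniversallyClosed (pullback.map (r ≫ q) (r ≫ q) q q r r (𝟙 S) (by simp) (by simp)) :=
    MorphismProperty.pullbackMap (P := @UniversallyClosed) ‹_› ‹_› rfl rfl
  have e : r ≫ pullback.diagonal q =
      pullback.diagonal (r ≫ q) ≫ pullback.map (r ≫ q) (r ≫ q) q q r r (𝟙 S) (by simp) (by simp) := by
    apply pullback.hom_ext
    · rw [Category.assoc, Category.assoc, pullback.diagonal_fst, pullback.lift_fst,
        ← Category.assoc, pullback.diagonal_fst]
      simp
    · rw [Category.assoc, Category.assoc, pullback.diagonal_snd, pullback.lift_snd,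
        ← Category.assoc, pullback.diagonal_snd]
      simp
  have h2 : UniversallyClosed (r ≫ pullback.diagonal q) := by
    rw [e]
    infer_instance
  have h3 : UniversallyClosed (pullback.diagonal q) := .of_comp_surjective r _
  exact ⟨.of_isPreimmersion _ (Scheme.Hom.isClosedMap _).isClosed_range⟩

section

variable {X Y XP YP : Scheme.{u}} [IsCharP X p] [IsCharP Y p] [IsCharP XP p] [IsCharP YP p]
    {πX : XP ⟶ X} {πY : YP ⟶ Y} (hX : IsPerfection πX p) (hY : IsPerfection πY p)
    {f : X ⟶ Y} {fP : XP ⟶ YP} (w : fP ≫ πY = πX ≫ f)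

include hX hY w

theorem quasiCompact_iff : QuasiCompact f ↔ QuasiCompact fP := by
  have := isAffineHom_of_isPerfection hX
  have := isAffineHom_of_isPerfection hY
  have h1 : Surjective πX := (Groth.Agent.FlatA.UnivHomeo.isUnivHomeo_iff _ |>.mp (isUnivHomeo_of_isPerfection hX)).2.2
  constructor
  · intro h
    have : QuasiCompact (fP ≫ πY) := by rw [w]; infer_instance
    exact .of_comp fP πY
  · intro h
    have : QuasiCompact (πX ≫ f) := by rw [← w]; infer_instance
    exact Groth.Agent.Sga3.H771.QcDesc.quasiCompact_of_surjective_comp πX f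

theorem quasiSeparated_iff : QuasiSeparated f ↔ QuasiSeparated fP := by
  have := isAffineHom_of_isPerfection hX
  have := isAffineHom_of_isPerfection hY
  have h1 : Surjective πX := (Groth.Agent.FlatA.UnivHomeo.isUnivHomeo_iff _ |>.mp (isUnivHomeo_of_isPerfection hX)).2.2
  constructor
  · intro h
    have : QuasiSeparated (fP ≫ πY) := by rw [w]; infer_instance
    exact .of_comp fP πY
  · intro h
    have : QuasiSeparated (πX ≫ f) := by rw [← w]; infer_instance
    exact Groth.Agent.Sga3.H771.QcDesc.quasiSeparated_of_surjective_comp πX f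

theorem isAffineHom_iff : IsAffineHom f ↔ IsAffineHom fP := by
  have := isAffineHom_of_isPerfection hX
  have := isAffineHom_of_isPerfection hY
  constructor
  · intro h
    have : IsAffineHom (fP ≫ πY) := by rw [w]; infer_instance
    exact .of_comp fP πY
  · intro h
    have : IsAffineHom (πX ≫ f) := by rw [← w]; infer_instance
    exact isAffineHom_of_postcomp (p := p) πX (isPRadical_app hX) f

theorem isSeparated_iff : IsSeparated f ↔ IsSeparated fP := by
  have := isAffineHom_of_isPerfection hX
  have := isAffineHom_of_isPerfection hY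
  have h0 := Groth.Agent.FlatA.UnivHomeo.isUnivHomeo_iff _ |>.mp (isUnivHomeo_of_isPerfection hX)
  have h1 : Surjective πX := h0.2.2
  have h2 : IsIntegralHom πX := h0.1
  constructor
  · intro h
    have : IsSeparated (fP ≫ πY) := by rw [w]; infer_instance
    exact .of_comp fP πY
  · intro h
    have : IsSeparated (πX ≫ f) := by rw [← w]; infer_instance
    exact isSeparated_of_surjective_comp πX f

theorem universallyClosed_iff : UniversallyClosed f ↔ UniversallyClosed fP := by
  have := isAffineHom_of_isPerfection hX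
  have := isAffineHom_of_isPerfection hY
  have h0 := Groth.Agent.FlatA.UnivHomeo.isUnivHomeo_iff _ |>.mp (isUnivHomeo_of_isPerfection hX)
  have h1 : Surjective πX := h0.2.2
  have h2 : IsIntegralHom πX := h0.1
  have h3 : IsIntegralHom πY := (Groth.Agent.FlatA.UnivHomeo.isUnivHomeo_iff _ |>.mp (isUnivHomeo_of_isPerfection hY)).1
  constructor
  · intro h
    have : UniversallyClosed (fP ≫ πY) := by rw [w]; infer_instance
    exact UniversallyClosed.of_comp_of_isSeparated fP πY
  · intro h
    have : UniversallyClosed (πX ≫ f) := by rw [← w]; infer_instance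
    exact .of_comp_surjective πX f

theorem isUnivHomeo_comp {A B C : Scheme.{u}} {a : A ⟶ B} {b : B ⟶ C} (ha : FlatMor.IsUnivHomeo a)
    (hb : FlatMor.IsUnivHomeo b) : FlatMor.IsUnivHomeo (a ≫ b) := by
  rw [Groth.Agent.FlatA.UnivHomeo.isUnivHomeo_iff] at *
  obtain ⟨h1, h2, h3⟩ := ha
  obtain ⟨k1, k2, k3⟩ := hb
  exact ⟨inferInstance, MorphismProperty.comp_mem _ _ _ h2 k2, inferInstance⟩

theorem isUnivHomeo_iff : FlatMor.IsUnivHomeo f ↔ FlatMor.IsUnivHomeo fP := by
  have h1 := isUnivHomeo_of_isPerfection hX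
  have h2 := isUnivHomeo_of_isPerfection hY
  constructor
  · intro h
    have h3 : FlatMor.IsUnivHomeo (fP ≫ πY) := by rw [w]; exact isUnivHomeo_comp hX hY w h1 h
    exact Groth.Agent.FlatA.UnivHomeo.isUnivHomeo_of_postcomp fP πY h3 h2
  · intro h
    have h3 : FlatMor.IsUnivHomeo (πX ≫ f) := by rw [← w]; exact isUnivHomeo_comp hX hY w h h2
    exact Groth.Agent.FlatA.UnivHomeo.isUnivHomeo_of_precomp πX f h3 h1

end

end K818.Morph
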