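import Groth.Agent.PerfSch.K818.Morph
import Groth.Agent.PerfSch.K818.FlatRing
import Groth.Agent.PerfSch.K818.EtaleRing
import Mathlib.AlgebraicGeometry.Morphisms.Etale
import Mathlib.AlgebraicGeometry.Morphisms.Flat

/-!
# Properties of morphisms and their perfections, II

Closed, open and locally closed immersions, étale and flat morphisms.
-/

set_option autoImplicit false
set_option linter.unusedSectionVars false
set_option backward.isDefEq.respectTransparency false
universe u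

open CategoryTheory CategoryTheory.Limits AlgebraicGeometry Opposite TopologicalSpace

namespace K818.Morph2

open FrobSch K818.Basic K818.Ring K818.Struct K818.Sections K818.Affine

variable {p : ℕ} [Fact p.Prime]

/-- A scheme étale over a perfect scheme is perfect. -/
theorem isPerfect_of_etale {Z T : Scheme.{u}} [IsCharP Z p] [IsCharP T p] (f : Z ⟶ T) [Etale f]
    (hT : IsPerfect T p) : IsPerfect Z p := by
  have h : ∀ z : Z, ∃ (V : Z.affineOpens), z ∈ V.1 ∧ Function.Bijective (fun s : Γ(Z, V.1) => s ^ p) := by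
    intro z
    obtain ⟨U, hU, hzU, -⟩ := exists_isAffineOpen_mem_and_subset (X := T) (U := ⊤) (x := f z) trivial
    obtain ⟨V, hV, hzV, hVU⟩ := exists_isAffineOpen_mem_and_subset (X := Z) (U := f ⁻¹ᵁ U) (x := z) hzU
    refine ⟨⟨V, hV⟩, hzV, ?_⟩
    have h1 := f.etale_appLE hU hV hVU
    let _ := (f.appLE U V hVU).hom.toAlgebra
    have h2 : Algebra.Etale Γ(T, U) Γ(Z, V) := h1
    exact (EtaleRing.perfRing_of_etale Γ(T, U) Γ(Z, V) (perfRing_of_isPerfect hT U)).bij
  choose V hzV hV using h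
  refine isPerfect_of_affine_cover V ?_ hV
  rw [eq_top_iff]
  intro z _
  rw [Opens.mem_iSup]
  exact ⟨z, hzV z⟩

section

variable {X Y XP YP : Scheme.{u}} [IsCharP X p] [IsCharP Y p] [IsCharP XP p] [IsCharP YP p]
    {πX : XP ⟶ X} {πY : YP ⟶ Y} (hX : IsPerfection πX p) (hY : IsPerfection πY p)
    {f : X ⟶ Y} {fP : XP ⟶ YP} (w : fP ≫ πY = πX ≫ f)

instance isCharP_pullback_snd (f : X ⟶ Y) (πY : YP ⟶ Y) : IsCharP (pullback f πY) p :=
  IsCharP.of_hom (pullback.snd f πY) p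

include hX hY w

theorem isPullback_of_isPerfect (h : IsPerfect (pullback f πY) p) : IsPullback fP πX πY f := by
  have h1 : IsPerfection (pullback.fst f πY) p :=
    isPerfection_of_isPullback (IsPullback.of_hasPullback f πY).flip hY h
  obtain ⟨e, he⟩ := isPerfection_exists_iso hX h1
  have h2 : e.hom ≫ pullback.snd f πY = fP := by
    refine (hY.2 XP hX.1).1 ?_
    dsimp only
    rw [Category.assoc, ← pullback.condition, reassoc_of% he, w]
  refine IsPullback.of_iso (IsPullback.of_hasPullback f πY).flip e.symm (Iso.refl _) (Iso.refl _) (Iso.refl _)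
    ?_ ?_ (by simp) (by simp)
  · simp [← h2]
  · simp [← he]

theorem isPullback_of_etale [Etale f] : IsPullback fP πX πY f :=
  isPullback_of_isPerfect hX hY w (isPerfect_of_etale (pullback.snd f πY) hY.1)

theorem isOpenImmersion_of [IsOpenImmersion f] : IsOpenImmersion fP :=
  MorphismProperty.of_isPullback (isPullback_of_etale hX hY w).flip ‹IsOpenImmersion f›

theorem isClosedImmersion_of [IsClosedImmersion f] : IsClosedImmersion fP := by
  have hfP : IsAffineHom fP := (Morph.isAffineHom_iff hX hY w).mp inferInstance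
  have hπY := isAffineHom_of_isPerfection hY
  refine HasAffineProperty.of_iSup_eq_top (P := @IsClosedImmersion) (ι := Y.affineOpens)
    (fun U => ⟨πY ⁻¹ᵁ U.1, U.2.preimage πY⟩) ?_ ?_
  · change (⨆ i : Y.affineOpens, πY ⁻¹ᵁ i.1) = ⊤
    rw [← Scheme.Hom.preimage_iSup, iSup_affineOpens_eq_top]
    rfl
  intro U
  refine ⟨(U.2.preimage πY).preimage fP, ?_⟩
  rw [morphismRestrict_appTop]
  have key : Function.Surjective (fP.app (πY ⁻¹ᵁ U.1)) := by
    intro b
    have hUX : IsAffineOpen (f ⁻¹ᵁ U.1) := U.2.preimage f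
    have hrX := isPRadical_app hX (f ⁻¹ᵁ U.1) hUX
    have hW : fP ⁻¹ᵁ (πY ⁻¹ᵁ U.1) ≤ πX ⁻¹ᵁ (f ⁻¹ᵁ U.1) := by
      rw [← Scheme.Hom.comp_preimage, ← Scheme.Hom.comp_preimage, w]
    have hW' : πX ⁻¹ᵁ (f ⁻¹ᵁ U.1) ≤ fP ⁻¹ᵁ (πY ⁻¹ᵁ U.1) := by
      rw [← Scheme.Hom.comp_preimage, ← Scheme.Hom.comp_preimage, w]
    obtain ⟨n, a, ha⟩ := IsPRadical.pow_mem (πX.app (f ⁻¹ᵁ U.1)).hom p (XP.presheaf.map (homOfLE hW').op b)
    obtain ⟨c, rfl⟩ := f.app_surjective U.1 U.2 a
    have hYr := perfRing_of_isPerfect hY.1 (πY ⁻¹ᵁ U.1)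
    have hXr := perfRing_of_isPerfect hX.1 (fP ⁻¹ᵁ (πY ⁻¹ᵁ U.1))
    refine ⟨hYr.root n (πY.app U.1 c), hXr.pow_inj (n := n) ?_⟩
    rw [← map_pow, hYr.root_pow]
    have h1 : (fP ≫ πY).app U.1 c =
        XP.presheaf.map (homOfLE hW).op ((πX ≫ f).app U.1 c) := by
      have h2 := Scheme.Hom.congr_app w U.1
      exact congr($(h2) c)
    rw [Scheme.Hom.comp_app, Scheme.Hom.comp_app] at h1
    have h3 : (πX.app (f ⁻¹ᵁ U.1)) ((f.app U.1) c) = (XP.presheaf.map (homOfLE hW').op b) ^ p ^ n := ha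
    have h4 : XP.presheaf.map (homOfLE hW).op (XP.presheaf.map (homOfLE hW').op b) = b := by
      rw [← CommRingCat.comp_apply, ← Functor.map_comp]
      have : (homOfLE hW').op ≫ (homOfLE hW).op = 𝟙 _ := rfl
      rw [this, CategoryTheory.Functor.map_id]
      rfl
    simp only [CommRingCat.comp_apply] at h1
    refine h1.trans ((congrArg (XP.presheaf.map (homOfLE hW).op) h3).trans ?_)
    refine (map_pow (XP.presheaf.map (homOfLE hW).op).hom _ _).trans ?_
    exact congrArg (· ^ p ^ n) h4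
  have h5 : ∀ (V : YP.Opens) (hV : V = πY ⁻¹ᵁ U.1), Function.Surjective (fP.app V) := by
    rintro V rfl; exact key
  have h6 := h5 ((πY ⁻¹ᵁ U.1).ι ''ᵁ ⊤) (by simp)
  have h7 := (ConcreteCategory.isIso_iff_bijective (XP.presheaf.map
    (eqToHom (image_morphismRestrict_preimage fP (πY ⁻¹ᵁ U.1) ⊤)).op)).mp inferInstance
  exact h7.2.comp h6

end

section

variable {X Y XP YP : Scheme.{u}} [IsCharP X p] [IsCharP Y p] [IsCharP XP p] [IsCharP YP p]
    {πX : XP ⟶ X} {πY : YP ⟶ Y} (hX : IsPerfection πX p) (hY : IsPerfection πY p)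
    {f : X ⟶ Y} {fP : XP ⟶ YP} (w : fP ≫ πY = πX ≫ f)

include hX hY w

theorem isImmersion_of [IsImmersion f] : IsImmersion fP := by
  obtain ⟨Z, g₁, g₂, h₁, h₂, rfl⟩ := IsImmersion.isImmersion_iff_exists.mp ‹IsImmersion f›
  have : IsCharP Z p := IsCharP.of_hom g₂ p
  have hZ : IsPerfection (pullback.fst g₂ πY) p :=
    isPerfection_of_isPullback (IsPullback.of_hasPullback g₂ πY).flip hY
      (isPerfect_of_isOpenImmersion (pullback.snd g₂ πY) hY.1)
  obtain ⟨h, hh⟩ := (hZ.2 XP hX.1).2 (πX ≫ g₁)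
  dsimp only at hh
  have h3 : h ≫ pullback.snd g₂ πY = fP := by
    refine (hY.2 XP hX.1).1 ?_
    dsimp only
    rw [Category.assoc, ← pullback.condition, reassoc_of% hh, w]
  have h4 : IsClosedImmersion h := isClosedImmersion_of hX hZ hh
  rw [← h3]
  infer_instance

theorem flat_of [Flat f] : Flat fP := by
  have hπX := isAffineHom_of_isPerfection hX
  have hπY := isAffineHom_of_isPerfection hY
  rw [HasRingHomProperty.iff_exists_appLE (P := @Flat)
    (RingHom.Flat.stableUnderComposition.stableUnderCompositionWithLocalizationAway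
      RingHom.Flat.holdsForLocalizationAway).1]
  intro x
  obtain ⟨U, hU, hzU, -⟩ := exists_isAffineOpen_mem_and_subset (X := Y) (U := ⊤) (x := f (πX x)) trivial
  obtain ⟨V, hV, hzV, hVU⟩ := exists_isAffineOpen_mem_and_subset (X := X) (U := f ⁻¹ᵁ U) (x := πX x) hzU
  have e : πX ⁻¹ᵁ V ≤ fP ⁻¹ᵁ (πY ⁻¹ᵁ U) := by
    rw [← Scheme.Hom.comp_preimage, w, Scheme.Hom.comp_preimage]
    exact πX.preimage_mono hVU
  refine ⟨⟨πY ⁻¹ᵁ U, hU.preimage πY⟩, ⟨πX ⁻¹ᵁ V, hV.preimage πX⟩, hzV, e, ?_⟩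
  have h1 := f.flat_appLE hU hV hVU
  have h2 := isPRadical_app hX V hV
  have h3 := isPRadical_app hY U hU
  refine FlatRing.flat_of_flat (natCast_eq_zero_app Y p U) (perfRing_of_isPerfect hY.1 (πY ⁻¹ᵁ U))
    (perfRing_of_isPerfect hX.1 (πX ⁻¹ᵁ V)) (f.appLE U V hVU).hom h1 (πY.app U).hom (πX.app V).hom _ ?_
  rw [← CommRingCat.hom_comp, ← CommRingCat.hom_comp]
  congr 1
  rw [← Scheme.Hom.appLE_eq_app, ← Scheme.Hom.appLE_eq_app, Scheme.Hom.appLE_comp_appLE, Scheme.Hom.appLE_comp_appLE]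
  congr 1

theorem surjective_of [Surjective f] : Surjective fP := by
  have h0 := isUnivHomeo_of_isPerfection hX
  have h1 : Surjective πX := (Groth.Agent.FlatA.UnivHomeo.isUnivHomeo_iff _ |>.mp h0).2.2
  have h2 := Groth.Agent.FlatA.UnivHomeo.isHomeomorph_of_isUnivHomeo (isUnivHomeo_of_isPerfection hY)
  have h3 : Surjective (fP ≫ πY) := by rw [w]; infer_instance
  refine ⟨fun y => ?_⟩
  obtain ⟨x, hx⟩ := (fP ≫ πY).surjective (πY y)
  exact ⟨x, h2.injective (by simpa using hx)⟩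

end

end K818.Morph2
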