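import Groth.Agent.PerfSch.K818.Exist

/-!
# Perfection commutes with limits of diagrams with affine transition maps

`perfD p D` is the diagram of the perfections of a diagram `D` of schemes of characteristic `p`;
`isLimitPerfC` : if `c` is a limit cone over `D` and `π : XP ⟶ c.pt` a perfection then `XP` is the limit of
`perfD p D`.
-/

set_option autoImplicit false
set_option linter.unusedSectionVars false
set_option backward.isDefEq.respectTransparency false
universe u

open CategoryTheory CategoryTheory.Limits AlgebraicGeometry Opposite TopologicalSpace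

namespace K818.PerfLim

open FrobSch K818.Basic K818.Tower

variable {p : ℕ} [Fact p.Prime] {J : Type u} [SmallCategory J]

section Perfect

theorem inv_frob_naturality {X Y : Scheme.{u}} [IsCharP X p] [IsCharP Y p] [IsIso (frob X p)] [IsIso (frob Y p)]
    (f : X ⟶ Y) : inv (frob X p) ≫ f = f ≫ inv (frob Y p) := by
  rw [IsIso.inv_comp_eq, ← Category.assoc, frob_comp, Category.assoc, IsIso.hom_inv_id, Category.comp_id]

variable {E : J ⥤ Scheme.{u}}

/-- The leg of a cone. -/
def lg (c : Cone E) (j : J) : c.pt ⟶ E.obj j := c.π.app j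

@[reassoc (attr := simp)]
theorem lg_map (c : Cone E) {i j : J} (f : i ⟶ j) : lg c i ≫ E.map f = lg c j := c.w f

theorem lg_ext {c : Cone E} (hc : IsLimit c) {T : Scheme.{u}} {a b : T ⟶ c.pt}
    (h : ∀ j, a ≫ lg c j = b ≫ lg c j) : a = b := hc.hom_ext h

/-- A cone from a family of legs. -/
@[simps]
def mkC {T : Scheme.{u}} (l : ∀ j, T ⟶ E.obj j) (h : ∀ ⦃i j : J⦄ (f : i ⟶ j), l i ≫ E.map f = l j) : Cone E where
  pt := T
  π :=
    { app := l
      naturality := fun i j f => by
        simp only [Functor.const_obj_obj, Functor.const_obj_map, Category.id_comp]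
        exact (h f).symm }

/-- The lift to a limit cone. -/
def lf {c : Cone E} (hc : IsLimit c) {T : Scheme.{u}} (l : ∀ j, T ⟶ E.obj j)
    (h : ∀ ⦃i j : J⦄ (f : i ⟶ j), l i ≫ E.map f = l j) : T ⟶ c.pt := hc.lift (mkC l h)

@[reassoc (attr := simp)]
theorem lf_lg {c : Cone E} (hc : IsLimit c) {T : Scheme.{u}} (l : ∀ j, T ⟶ E.obj j)
    (h : ∀ ⦃i j : J⦄ (f : i ⟶ j), l i ≫ E.map f = l j) (j : J) : lf hc l h ≫ lg c j = l j :=
  hc.fac (mkC l h) j

variable [∀ j, IsCharP (E.obj j) p]

/-- The limit of a diagram of perfect schemes is perfect. -/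
theorem isPerfect_pt (hE : ∀ j, IsPerfect (E.obj j) p) {c : Cone E} (hc : IsLimit c) [IsCharP c.pt p] :
    IsPerfect c.pt p := by
  have (j : J) : IsIso (frob (E.obj j) p) := hE j
  let t : c.pt ⟶ c.pt := lf hc (fun j => lg c j ≫ inv (frob (E.obj j) p)) (by
    intro i j f
    rw [Category.assoc, inv_frob_naturality, lg_map_assoc])
  have ht (j : J) : t ≫ lg c j = lg c j ≫ inv (frob (E.obj j) p) := lf_lg _ _ _ _
  refine ⟨t, lg_ext hc fun j => ?_, lg_ext hc fun j => ?_⟩
  · rw [Category.assoc, ht, frob_comp_assoc, IsIso.hom_inv_id, Category.comp_id, Category.id_comp]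
  · rw [Category.assoc, frob_comp, reassoc_of% (ht j), IsIso.inv_hom_id, Category.comp_id, Category.id_comp]

end Perfect

section Lim

variable (D : J ⥤ Scheme.{u}) (p) [∀ j, IsCharP (D.obj j) p]

/-- The diagram of perfections. -/
@[simps]
noncomputable def perfD : J ⥤ Scheme.{u} where
  obj j := perf p (D.obj j)
  map f := perfMap (D.map f) p
  map_id j := by
    rw [← perfMap_id]
    congr 1
    exact D.map_id j
  map_comp f g := by
    rw [← perfMap_comp']
    congr 1
    exact D.map_comp f g

noncomputable instance (j : J) : IsCharP ((perfD p D).obj j) p := inferInstanceAs (IsCharP (perf p (D.obj j)) p)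

theorem isPerfect_perfD (j : J) : IsPerfect ((perfD p D).obj j) p := isPerfect_perf _

instance isAffineHom_perfD [∀ ⦃i j : J⦄ (f : i ⟶ j), IsAffineHom (D.map f)] ⦃i j : J⦄ (f : i ⟶ j) :
    IsAffineHom ((perfD p D).map f) :=
  (Morph.isAffineHom_iff (isPerfection_perfπ _) (isPerfection_perfπ _) (perfMap_comp (D.map f))).1 inferInstance

variable {D p}

variable {c : Cone D} {XP : Scheme.{u}} [IsCharP XP p] {π : XP ⟶ c.pt}

/-- The cone over the diagram of perfections. -/
noncomputable def perfC (hX : IsPerfect XP p) (π : XP ⟶ c.pt) : Cone (perfD p D) :=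
  mkC (fun j => lifP (isPerfection_perfπ (D.obj j)) hX (π ≫ lg c j)) (fun i j f => by
    refine hom_extP (isPerfection_perfπ _) hX ?_
    simp)

@[reassoc (attr := simp)]
theorem lg_perfC (hX : IsPerfect XP p) (π : XP ⟶ c.pt) (j : J) :
    (lg (perfC hX π) j : XP ⟶ perf p (D.obj j)) ≫ perfπ p (D.obj j) = π ≫ lg c j :=
  lifP_comp (isPerfection_perfπ (D.obj j)) hX (π ≫ lg c j)

/-- Perfection commutes with limits of diagrams with affine transition maps. -/
noncomputable def isLimitPerfC [IsCofiltered J] [∀ ⦃i j : J⦄ (f : i ⟶ j), IsAffineHom (D.map f)] (hc : IsLimit c)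
    (hπ : IsPerfection π p) : IsLimit (perfC hπ.1 π) := by
  have hl : HasLimit (perfD p D) := Groth.Agent.S2151.hasLimit (perfD p D)
  let L := limit.cone (perfD p D)
  have hL : IsLimit L := limit.isLimit _
  have : IsCharP L.pt p := IsCharP.of_hom (lg L (Classical.choice (IsCofiltered.nonempty))) p
  have hP : IsPerfect L.pt p := isPerfect_pt (isPerfect_perfD p D) hL
  let a : XP ⟶ L.pt := hL.lift (perfC hπ.1 π)
  have ha (j : J) : a ≫ lg L j = lg (perfC hπ.1 π) j := hL.fac _ _
  have ha' (j : J) : (a ≫ (lg L j : L.pt ⟶ perf p (D.obj j))) ≫ perfπ p (D.obj j) = π ≫ lg c j := by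
    rw [ha]
    exact lg_perfC hπ.1 π j
  let b0 : L.pt ⟶ c.pt := lf hc (fun j => (lg L j : L.pt ⟶ perf p (D.obj j)) ≫ perfπ p (D.obj j)) (by
    intro i j f
    rw [Category.assoc, ← perfMap_comp, ← Category.assoc]
    congr 1
    exact lg_map L f)
  have hb0 (j : J) : b0 ≫ lg c j = (lg L j : L.pt ⟶ perf p (D.obj j)) ≫ perfπ p (D.obj j) := lf_lg _ _ _ _
  let b : L.pt ⟶ XP := lifP hπ hP b0
  have hb : b ≫ π = b0 := lifP_comp _ _ _
  let e : XP ≅ L.pt :=
    { hom := a
      inv := b
      hom_inv_id := by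
        refine hom_extP hπ hπ.1 ?_
        rw [Category.assoc, hb, Category.id_comp]
        refine lg_ext hc fun j => ?_
        rw [Category.assoc, hb0, ← Category.assoc, ha']
      inv_hom_id := by
        refine lg_ext hL fun j => ?_
        rw [Category.assoc, Category.id_comp]
        refine hom_extP (isPerfection_perfπ (D.obj j)) hP ?_
        rw [Category.assoc, ha', ← Category.assoc, hb, hb0] }
  refine hL.ofIsoLimit (Cone.ext e.symm fun j => ?_)
  change lg L j = b ≫ lg (perfC hπ.1 π) j
  rw [← ha, ← Category.assoc]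
  have : b ≫ a = 𝟙 _ := e.inv_hom_id
  rw [this, Category.id_comp]

end Lim

end K818.PerfLim
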