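import Groth.Agent.PerfSch.K818.FrobPow
import Groth.Agent.Ega3B.LimInv2
import Groth.Agent.Ega3B.PullTensor

/-!
# Invertible modules on a perfection

`trivial_iff`, `exists_pow_iso` : `Pic (X_perf) = Pic(X)[1/p]` for `X` qcqs of characteristic `p`.
-/

set_option autoImplicit false
set_option linter.unusedSectionVars false
set_option backward.isDefEq.respectTransparency false
universe u

open CategoryTheory CategoryTheory.Limits AlgebraicGeometry Opposite TopologicalSpace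

namespace K818.Pic

open FrobSch K818.Tower K818.FrobPow

variable {p : ℕ} [Fact p.Prime] {X XP : Scheme.{u}} [IsCharP X p] [IsCharP XP p]
  {π : XP ⟶ X} (hπ : IsPerfection π p)

theorem pb_comp {A B C : Scheme.{u}} (f : A ⟶ B) (g : B ⟶ C) (h : A ⟶ C) (w : f ≫ g = h) (L : C.Modules) :
    Nonempty ((Scheme.Modules.pullback h).obj L ≅
      (Scheme.Modules.pullback f).obj ((Scheme.Modules.pullback g).obj L)) := by
  subst w
  exact ⟨((Scheme.Modules.pullbackComp f g).app L).symm⟩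

include hπ in
theorem trivial_of_pow {L : X.Modules} (hL : PicF.IsInvertible L) (n : ℕ)
    (h : Nonempty (CohB1.tensorPow L (p ^ n) ≅ Coh.structureModule X)) :
    Nonempty ((Scheme.Modules.pullback π).obj L ≅ Coh.structureModule XP) := by
  obtain ⟨e⟩ := h
  obtain ⟨φ⟩ := nonempty_pullback_frobIter_iso (p := p) hL n
  let l : XP ⟶ X := leg (towerCone π hπ.1) n
  have hl : l ≫ frobIter X p n = π :=
    (leg_frobIter_zero (towerCone π hπ.1) n).trans (leg_towerCone_zero hπ.1)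
  obtain ⟨a⟩ := pb_comp l _ _ hl L
  obtain ⟨b⟩ := Groth.Agent.Ega3B.PullTensor.nonempty_pullUnitIso l
  exact ⟨a ≪≫ (Scheme.Modules.pullback l).mapIso (φ ≪≫ e) ≪≫ b⟩

include hπ in
theorem exists_pow_trivial [CompactSpace X] [QuasiSeparatedSpace X] {L : X.Modules} (hL : PicF.IsInvertible L)
    (h : Nonempty ((Scheme.Modules.pullback π).obj L ≅ Coh.structureModule XP)) :
    ∃ n : ℕ, Nonempty (CohB1.tensorPow L (p ^ n) ≅ Coh.structureModule X) := by
  have i1 (i : (ULift.{u} ℕ)ᵒᵖ) : CompactSpace ((towerD X p).obj i) := ‹CompactSpace X›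
  have i2 (i : (ULift.{u} ℕ)ᵒᵖ) : QuasiSeparatedSpace ((towerD X p).obj i) := ‹QuasiSeparatedSpace X›
  obtain ⟨e⟩ := h
  obtain ⟨b⟩ := Groth.Agent.Ega3B.PullTensor.nonempty_pullUnitIso (leg (towerCone π hπ.1) 0)
  have hl : (leg (towerCone π hπ.1) 0 : XP ⟶ X) = π := leg_towerCone_zero hπ.1
  have h1 : Nonempty ((Scheme.Modules.pullback (leg (towerCone π hπ.1) 0)).obj L ≅
      (Scheme.Modules.pullback (leg (towerCone π hπ.1) 0)).obj (Coh.structureModule X)) := by
    refine ⟨?_ ≪≫ b.symm⟩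
    exact eqToIso (by rw [hl]) ≪≫ e
  obtain ⟨⟨⟨m⟩⟩, a, ⟨ψ⟩⟩ := Groth.Agent.Ega3B.LimInv.exists_iso (towerD X p) (towerCone π hπ.1) (isLimitTowerCone hπ)
    (i := ix 0) (M := (show X.Modules from L)) (N := Coh.structureModule X) hL
    Groth.Agent.Fdesc.LocGen.isInvertible_structureModule h1
  obtain ⟨φ⟩ := nonempty_pullback_frobIter_iso (p := p) hL m
  obtain ⟨b'⟩ := Groth.Agent.Ega3B.PullTensor.nonempty_pullUnitIso (frobIter X p m)
  exact ⟨m, ⟨φ.symm ≪≫ ψ ≪≫ b'⟩⟩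

include hπ in
theorem exists_pow_iso [CompactSpace X] [QuasiSeparatedSpace X] {M : XP.Modules} (hM : PicF.IsInvertible M) :
    ∃ (n : ℕ) (L : X.Modules), PicF.IsInvertible L ∧
      Nonempty (CohB1.tensorPow M (p ^ n) ≅ (Scheme.Modules.pullback π).obj L) := by
  have i1 (i : (ULift.{u} ℕ)ᵒᵖ) : CompactSpace ((towerD X p).obj i) := ‹CompactSpace X›
  have i2 (i : (ULift.{u} ℕ)ᵒᵖ) : QuasiSeparatedSpace ((towerD X p).obj i) := ‹QuasiSeparatedSpace X›
  obtain ⟨⟨⟨n⟩⟩, L, hL, ⟨e⟩⟩ := Groth.Agent.Ega3B.LimInv.exists_invertible (towerD X p) (towerCone π hπ.1)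
    (isLimitTowerCone hπ) (L := M) hM
  change X.Modules at L
  obtain ⟨φ⟩ := nonempty_pullback_frobIter_iso (p := p) hM n
  let l : XP ⟶ X := leg (towerCone π hπ.1) n
  have hl : frobIter XP p n ≫ l = π := frobIter_towerCone hπ.1 n
  obtain ⟨a⟩ := pb_comp _ _ _ hl L
  exact ⟨n, L, hL, ⟨φ.symm ≪≫ (Scheme.Modules.pullback (frobIter XP p n)).mapIso e.symm ≪≫ a.symm⟩⟩

end K818.Pic
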