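import Groth.Agent.PerfSch.K818.Struct
import Mathlib.AlgebraicGeometry.Morphisms.QuasiSeparated

/-!
# Sections over quasi-compact (quasi-separated) opens of a `p`-radical affine morphism

Let `f : Y ⟶ Z` be a morphism with `p = 0` on `Z`, such that `Γ(Z, U) → Γ(Y, f⁻¹U)` is `p`-radical for affine `U`.
Then the same holds for all quasi-compact quasi-separated opens `U`.
-/

set_option autoImplicit false
set_option linter.unusedSectionVars false
set_option backward.isDefEq.respectTransparency false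
universe u

open CategoryTheory CategoryTheory.Limits AlgebraicGeometry Opposite TopologicalSpace

namespace K818.Sections

open FrobSch K818.Basic K818.Ring K818.Struct

variable {p : ℕ} [Fact p.Prime]

/-- A compact open is a finite union of affine opens. -/
theorem exists_cover {Z : Scheme.{u}} (U : Z.Opens) (hU : IsCompact (U : Set Z)) :
    ∃ (ι : Type u) (_ : Finite ι) (V : ι → Z.affineOpens), (∀ i, (V i).1 ≤ U) ∧ U ≤ ⨆ i, (V i).1 := by
  obtain ⟨s, hs, h⟩ := isCompact_iff_finite_and_eq_biUnion_affineOpens.mp hU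
  refine ⟨s, hs.to_subtype, fun i => i.1, ?_, ?_⟩
  · intro i
    rw [h]
    exact le_iSup₂_of_le i.1 i.2 le_rfl
  · rw [h]
    exact iSup₂_le fun i hi => le_iSup_of_le (⟨i, hi⟩ : s) le_rfl

theorem exists_max {ι : Type*} [Finite ι] (n : ι → ℕ) : ∃ N, ∀ i, n i ≤ N := by
  have := Fintype.ofFinite ι
  exact ⟨∑ i, n i, fun i => Finset.single_le_sum (f := n) (fun _ _ => Nat.zero_le _) (Finset.mem_univ i)⟩

variable {Y Z : Scheme.{u}} (f : Y ⟶ Z)

theorem map_app {U V : Z.Opens} (h : V ≤ U) (a : Γ(Z, U)) :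
    f.app V (Z.presheaf.map (homOfLE h).op a) =
      Y.presheaf.map (homOfLE (f.preimage_mono h)).op (f.app U a) := by
  have := f.naturality (homOfLE h).op
  exact congr($(this) a)

theorem exists_pow_eq_zero (h : ∀ U : Z.Opens, IsAffineOpen U → IsPRadical (f.app U).hom p) (U : Z.Opens)
    (hU : IsCompact (U : Set Z)) (a : Γ(Z, U)) (ha : f.app U a = 0) : ∃ n, a ^ p ^ n = 0 := by
  obtain ⟨ι, _, V, hVU, hUV⟩ := exists_cover U hU
  have h1 : ∀ i, ∃ n, (Z.presheaf.map (homOfLE (hVU i)).op a) ^ p ^ n = 0 := by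
    intro i
    have := h (V i).1 (V i).2
    refine mem_pNilradical.mp (IsPRadical.ker_le (f.app (V i).1).hom p ?_)
    rw [RingHom.mem_ker]
    have h2 := map_app f (hVU i) a
    rw [ha, map_zero] at h2
    exact h2
  choose n hn using h1
  obtain ⟨N, hN⟩ := exists_max n
  refine ⟨N, ?_⟩
  refine Z.sheaf.eq_of_locally_eq' (fun i => (V i).1) U (fun i => homOfLE (hVU i)) hUV _ _ ?_
  intro i
  erw [map_pow, map_zero]
  rw [← Nat.sub_add_cancel (hN i), pow_add, mul_comm, pow_mul]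
  erw [hn i]
  exact zero_pow (pow_ne_zero _ (Fact.out : p.Prime).ne_zero)

theorem pow_eq_pow_of_app_eq [IsCharP Z p] (h : ∀ U : Z.Opens, IsAffineOpen U → IsPRadical (f.app U).hom p)
    (U : Z.Opens) (hU : IsCompact (U : Set Z)) (a b : Γ(Z, U)) (ha : f.app U a = f.app U b) :
    ∃ n, a ^ p ^ n = b ^ p ^ n := by
  obtain ⟨n, hn⟩ := exists_pow_eq_zero f h U hU (a - b) (by rw [map_sub, ha, sub_self])
  refine ⟨n, ?_⟩
  rw [sub_pow_p (natCast_eq_zero_app Z p U), sub_eq_zero] at hn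
  exact hn

theorem exists_app_eq_pow [IsCharP Z p] (h : ∀ U : Z.Opens, IsAffineOpen U → IsPRadical (f.app U).hom p)
    (U : Z.Opens) (hU : IsCompact (U : Set Z)) (hU' : IsQuasiSeparated (U : Set Z)) (s : Γ(Y, f ⁻¹ᵁ U)) :
    ∃ (n : ℕ) (a : Γ(Z, U)), f.app U a = s ^ p ^ n := by
  obtain ⟨ι, _, V, hVU, hUV⟩ := exists_cover U hU
  have h1 : ∀ i, ∃ (n : ℕ) (a : Γ(Z, (V i).1)), f.app (V i).1 a =
      (Y.presheaf.map (homOfLE (f.preimage_mono (hVU i))).op s) ^ p ^ n := by
    intro i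
    have := h (V i).1 (V i).2
    exact IsPRadical.pow_mem (f.app (V i).1).hom p _
  choose n a hn using h1
  obtain ⟨N, hN⟩ := exists_max n
  obtain ⟨b, hb⟩ : ∃ b : ∀ i, Γ(Z, (V i).1), ∀ i, f.app (V i).1 (b i) =
      (Y.presheaf.map (homOfLE (f.preimage_mono (hVU i))).op s) ^ p ^ N := by
    refine ⟨fun i => a i ^ p ^ (N - n i), fun i => ?_⟩
    rw [map_pow, hn, ← pow_mul, ← pow_add, Nat.add_sub_cancel' (hN i)]
  have h2 : ∀ ij : ι × ι, ∃ m : ℕ,
      (Z.presheaf.map (homOfLE (inf_le_left : (V ij.1).1 ⊓ (V ij.2).1 ≤ (V ij.1).1)).op (b ij.1)) ^ p ^ m =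
      (Z.presheaf.map (homOfLE (inf_le_right : (V ij.1).1 ⊓ (V ij.2).1 ≤ (V ij.2).1)).op (b ij.2)) ^ p ^ m := by
    rintro ⟨i, j⟩
    refine pow_eq_pow_of_app_eq f h _ ?_ _ _ ?_
    · exact hU' _ _ (hVU i) (V i).1.isOpen (V i).2.isCompact (hVU j) (V j).1.isOpen (V j).2.isCompact
    · rw [map_app, map_app]
      dsimp only
      rw [hb, hb, map_pow, map_pow]
      congr 1
      simp only [← CommRingCat.comp_apply, ← Functor.map_comp]
      rfl
  choose m hm using h2
  obtain ⟨M, hM⟩ := exists_max m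
  have hm' : ∀ i j : ι,
      (Z.presheaf.map (homOfLE (inf_le_left : (V i).1 ⊓ (V j).1 ≤ (V i).1)).op (b i ^ p ^ M)) =
      (Z.presheaf.map (homOfLE (inf_le_right : (V i).1 ⊓ (V j).1 ≤ (V j).1)).op (b j ^ p ^ M)) := by
    intro i j
    have h3 := hM (i, j)
    rw [map_pow, map_pow]
    rw [← Nat.add_sub_cancel' h3, pow_add, pow_mul, pow_mul]
    exact congrArg (· ^ p ^ (M - m (i, j))) (hm (i, j))
  obtain ⟨t, ht, -⟩ := Z.sheaf.existsUnique_gluing' (fun i => (V i).1) U (fun i => homOfLE (hVU i)) hUV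
    (fun i => b i ^ p ^ M) (fun i j => hm' i j)
  refine ⟨N + M, t, ?_⟩
  refine Y.sheaf.eq_of_locally_eq' (fun i => f ⁻¹ᵁ (V i).1) (f ⁻¹ᵁ U)
    (fun i => homOfLE (f.preimage_mono (hVU i))) ?_ _ _ ?_
  · rw [← Scheme.Hom.preimage_iSup]
    exact f.preimage_mono hUV
  · intro i
    have h4 := map_app f (hVU i) t
    have h5 : Z.presheaf.map (homOfLE (hVU i)).op t = b i ^ p ^ M := ht i
    rw [h5, map_pow, hb, ← pow_mul, ← pow_add] at h4
    refine h4.symm.trans ?_
    exact (map_pow (Y.presheaf.map (homOfLE (f.preimage_mono (hVU i))).op).hom s _).symm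

/-- The version for quasi-compact quasi-separated opens. -/
theorem isPRadical_app_of_isCompact [IsCharP Z p]
    (h : ∀ U : Z.Opens, IsAffineOpen U → IsPRadical (f.app U).hom p)
    (U : Z.Opens) (hU : IsCompact (U : Set Z)) (hU' : IsQuasiSeparated (U : Set Z)) :
    IsPRadical (f.app U).hom p where
  pow_mem' x := exists_app_eq_pow f h U hU hU' x
  ker_le' x hx := mem_pNilradical.mpr (exists_pow_eq_zero f h U hU x hx)

end K818.Sections
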