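import Groth.Prelude.Def_W4c3convisocdirimgFrobIter
import Groth.Agent.PerfSch.K818.Morph
import Mathlib.CategoryTheory.Filtered.Basic

/-!
# The tower of Frobenius morphisms

`frobIter_add`, `frobIter_naturality`; `towerD X p : (ULift ℕ)ᵒᵖ ⥤ Scheme`, the tower `⋯ → X → X → X`.
A limit of the tower is a perfection (`isPerfection_of_isLimit`); for a perfection `π` the tower has the limit cone
`towerCone` with vertex `XP` (`isLimitTowerCone`).
-/

set_option autoImplicit false
set_option linter.unusedSectionVars false
set_option backward.isDefEq.respectTransparency false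
universe u

open CategoryTheory CategoryTheory.Limits AlgebraicGeometry Opposite TopologicalSpace

namespace K818.Tower

open FrobSch K818.Basic

variable {p : ℕ} [Fact p.Prime]

section Iter

variable (X : Scheme.{u}) [IsCharP X p]

theorem frobIter_one : frobIter X p 1 = frob X p := by
  rw [frobIter_succ, frobIter_zero, Category.comp_id]

theorem frobIter_add (m n : ℕ) : frobIter X p (m + n) = frobIter X p m ≫ frobIter X p n := by
  induction m with
  | zero => rw [Nat.zero_add, frobIter_zero, Category.id_comp]
  | succ m ih => rw [Nat.succ_add, frobIter_succ, ih, frobIter_succ, Category.assoc]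

theorem frobIter_succ' (n : ℕ) : frobIter X p (n + 1) = frobIter X p n ≫ frob X p := by
  rw [frobIter_add, frobIter_one]

variable {X}

@[reassoc]
theorem frobIter_naturality {Y : Scheme.{u}} [IsCharP Y p] (f : X ⟶ Y) (n : ℕ) :
    frobIter X p n ≫ f = f ≫ frobIter Y p n := by
  induction n with
  | zero => simp
  | succ n ih => rw [frobIter_succ, Category.assoc, ih, frobIter_succ, frob_comp_assoc]

theorem isIso_frobIter (h : IsPerfect X p) (n : ℕ) : IsIso (frobIter X p n) := by
  have : IsIso (frob X p) := h
  induction n with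
  | zero => rw [frobIter_zero]; infer_instance
  | succ n ih => rw [frobIter_succ]; infer_instance

theorem frobIter_preimage (n : ℕ) (U : X.Opens) : frobIter X p n ⁻¹ᵁ U = U := by
  induction n with
  | zero => rfl
  | succ n ih => rw [frobIter_succ, Scheme.Hom.comp_preimage, ih]; rfl

end Iter

section Tower

instance : IsDirected (ULift.{u} ℕ) (· ≤ ·) where
  directed a b := ⟨⟨max a.down b.down⟩, le_max_left a.down b.down, le_max_right a.down b.down⟩

/-- The tower of Frobenius morphisms. -/
@[simps obj]
noncomputable def towerD (X : Scheme.{u}) (p : ℕ) [Fact p.Prime] [IsCharP X p] : (ULift.{u} ℕ)ᵒᵖ ⥤ Scheme.{u} where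
  obj _ := X
  map {i j} _ := frobIter X p (i.unop.down - j.unop.down)
  map_id i := by rw [Nat.sub_self, frobIter_zero]
  map_comp {i j k} f g := by
    rw [← frobIter_add]
    congr 1
    have h1 : j.unop ≤ i.unop := leOfHom f.unop
    have h2 : k.unop ≤ j.unop := leOfHom g.unop
    have h1' : j.unop.down ≤ i.unop.down := h1
    have h2' : k.unop.down ≤ j.unop.down := h2
    omega

variable (X : Scheme.{u}) [IsCharP X p]

theorem towerD_map {i j : (ULift.{u} ℕ)ᵒᵖ} (f : i ⟶ j) :
    (towerD X p).map f = frobIter X p (i.unop.down - j.unop.down) := rfl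

/-- The object of the index category. -/
abbrev ix (n : ℕ) : (ULift.{u} ℕ)ᵒᵖ := op ⟨n⟩

/-- The transition map. -/
def ixHom {m n : ℕ} (h : n ≤ m) : (ix m : (ULift.{u} ℕ)ᵒᵖ) ⟶ ix n :=
  (homOfLE (show (⟨n⟩ : ULift.{u} ℕ) ≤ ⟨m⟩ from h)).op

variable {X}

/-- The leg of a cone over the tower. -/
def leg (c : Cone (towerD X p)) (n : ℕ) : c.pt ⟶ X := c.π.app (ix n)

@[reassoc]
theorem leg_frobIter (c : Cone (towerD X p)) {m n : ℕ} (h : n ≤ m) :
    leg c m ≫ frobIter X p (m - n) = leg c n := by
  have := c.w (ixHom h)
  rw [towerD_map] at this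
  exact this

@[reassoc]
theorem leg_frob (c : Cone (towerD X p)) (n : ℕ) :
    leg c (n + 1) ≫ frob X p = leg c n := by
  have := leg_frobIter c (Nat.le_succ n)
  rw [Nat.succ_eq_add_one, Nat.add_sub_cancel_left, frobIter_one] at this
  exact this

@[reassoc]
theorem leg_frobIter_zero (c : Cone (towerD X p)) (n : ℕ) :
    leg c n ≫ frobIter X p n = leg c 0 := by
  have := leg_frobIter c (Nat.zero_le n)
  rwa [Nat.sub_zero] at this

theorem leg_hom_ext {c : Cone (towerD X p)} (hc : IsLimit c) {T : Scheme.{u}} {a b : T ⟶ c.pt}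
    (h : ∀ n, a ≫ leg c n = b ≫ leg c n) : a = b :=
  hc.hom_ext fun ⟨⟨n⟩⟩ => h n

/-- A cone from a family of legs. -/
@[simps]
noncomputable def mkCone {T : Scheme.{u}} (l : ℕ → (T ⟶ X)) (h : ∀ n, l (n + 1) ≫ frob X p = l n) :
    Cone (towerD X p) where
  pt := T
  π :=
    { app := fun i => l i.unop.down
      naturality := by
        intro i j f
        have h1 : j.unop ≤ i.unop := leOfHom f.unop
        have h1' : j.unop.down ≤ i.unop.down := h1
        have key : ∀ a b : ℕ, l (b + a) ≫ frobIter X p a = l b := by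
          intro a
          induction a with
          | zero => intro b; simp
          | succ a ih =>
            intro b
            rw [← Nat.add_assoc, frobIter_succ, reassoc_of% (h (b + a)), ih]
        simp only [Functor.const_obj_obj, Functor.const_obj_map, Category.id_comp, towerD_map]
        have := key (i.unop.down - j.unop.down) j.unop.down
        rw [Nat.add_sub_cancel' h1'] at this
        exact this.symm }

@[simp]
theorem leg_mkCone {T : Scheme.{u}} (l : ℕ → (T ⟶ X)) (h : ∀ n, l (n + 1) ≫ frob X p = l n) (n : ℕ) :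
    leg (mkCone l h) n = l n := rfl

/-- The lift to a limit cone. -/
noncomputable def lift {c : Cone (towerD X p)} (hc : IsLimit c) {T : Scheme.{u}} (l : ℕ → (T ⟶ X))
    (h : ∀ n, l (n + 1) ≫ frob X p = l n) : T ⟶ c.pt := hc.lift (mkCone l h)

@[reassoc (attr := simp)]
theorem lift_leg {c : Cone (towerD X p)} (hc : IsLimit c) {T : Scheme.{u}} (l : ℕ → (T ⟶ X))
    (h : ∀ n, l (n + 1) ≫ frob X p = l n) (n : ℕ) : lift hc l h ≫ leg c n = l n :=
  hc.fac (mkCone l h) (ix n)

theorem isPerfect_of_isLimit {c : Cone (towerD X p)} (hc : IsLimit c) [IsCharP c.pt p] : IsPerfect c.pt p := by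
  refine ⟨lift hc (fun n => leg c (n + 1)) (fun n => leg_frob c (n + 1)), leg_hom_ext hc fun n => ?_,
    leg_hom_ext hc fun n => ?_⟩
  · rw [Category.assoc, lift_leg, Category.id_comp, frob_comp, leg_frob]
  · rw [Category.assoc, frob_comp, lift_leg_assoc, leg_frob, Category.id_comp]

theorem isPerfection_of_isLimit {c : Cone (towerD X p)} (hc : IsLimit c) [IsCharP c.pt p] :
    IsPerfection (leg c 0) p := by
  refine ⟨isPerfect_of_isLimit hc, fun Y _ hY => ⟨?_, ?_⟩⟩
  · intro a b hab
    refine leg_hom_ext hc fun n => ?_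
    have := isIso_frobIter hY n
    rw [← cancel_epi (frobIter Y p n), ← Category.assoc, ← Category.assoc, frobIter_naturality,
      frobIter_naturality, Category.assoc, Category.assoc, frobIter_naturality, leg_frobIter_zero]
    exact hab
  · intro g
    have (n : ℕ) := isIso_frobIter hY n
    have h (n : ℕ) : (inv (frobIter Y p (n + 1)) ≫ g) ≫ frob X p = inv (frobIter Y p n) ≫ g := by
      rw [← cancel_epi (frobIter Y p (n + 1)), Category.assoc, IsIso.hom_inv_id_assoc, ← frob_comp,
        frobIter_succ, Category.assoc, IsIso.hom_inv_id_assoc]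
    refine ⟨lift hc (fun n => inv (frobIter Y p n) ≫ g) h, ?_⟩
    have h5 := lift_leg hc (fun n => inv (frobIter Y p n) ≫ g) h 0
    refine h5.trans ?_
    simp

end Tower

end K818.Tower
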