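import Groth.Prelude.Def_W4c1perfhdescPerf
import Groth.Agent.PerfSch.K818.EpiRing
import Groth.Agent.PerfSch.K818.Struct

/-!
# Universal homeomorphisms of perfect schemes are isomorphisms
-/

set_option autoImplicit false
set_option linter.unusedSectionVars false
set_option backward.isDefEq.respectTransparency false
universe u

open CategoryTheory CategoryTheory.Limits AlgebraicGeometry Opposite TopologicalSpace

namespace K818.UHIso

open K818.Ring

variable {p : ℕ} [Fact p.Prime]

theorem perfRing_of_isPerfect {X : Scheme.{u}} (h : PerfSch.IsPerfect p X) (U : X.Opens) : PerfRing p Γ(X, U) :=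
  ⟨(h U).1, (h U).2⟩

/-- A universal homeomorphism `Spec B → Spec A` with `A`, `B` perfect is an isomorphism. -/
theorem bijective_of_isUnivHomeo {A B : CommRingCat.{u}} (φ : A ⟶ B) (hA : PerfRing p A) (hB : PerfRing p B)
    (h : FlatMor.IsUnivHomeo (Spec.map φ)) : Function.Bijective φ.hom := by
  rw [Groth.Agent.FlatA.UnivHomeo.isUnivHomeo_iff] at h
  obtain ⟨h1, h2, h3⟩ := h
  let _ : Algebra A B := φ.hom.toAlgebra
  have hint : Algebra.IsIntegral A B := ⟨IsIntegralHom.SpecMap_iff.mp h1⟩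
  refine EpiRing.bijective_of_perfRing hA hB h3.surj (Spec.map φ).injective ?_
  intro K _ g₁ g₂ h12
  have h4 : ∀ (K : Type u) [Field K], Function.Injective (fun g : Spec (.of K) ⟶ Spec B ↦ g ≫ Spec.map φ) :=
    ((tfae_universallyInjective (Spec.map φ)).out 0 1).1 h2
  have h5 : Spec.map (CommRingCat.ofHom g₁) = Spec.map (CommRingCat.ofHom g₂) := by
    apply h4 K
    show Spec.map (CommRingCat.ofHom g₁) ≫ Spec.map φ = Spec.map (CommRingCat.ofHom g₂) ≫ Spec.map φ
    rw [← Spec.map_comp, ← Spec.map_comp]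
    congr 1
    ext x
    exact congr($h12 x)
  exact congrArg CommRingCat.Hom.hom (Spec.map_injective h5)

theorem isIso_of_isUnivHomeo {X Y : Scheme.{u}} (f : X ⟶ Y)
    (hX : PerfSch.IsPerfect p X) (hY : PerfSch.IsPerfect p Y) (hf : FlatMor.IsUnivHomeo f) : IsIso f := by
  have haff := Groth.Agent.FlatA.UnivHomeo.isAffineHom_of_isUnivHomeo hf
  refine HasAffineProperty.of_iSup_eq_top (P := MorphismProperty.isomorphisms Scheme)
    (f := f) (ι := Y.affineOpens) (fun U => U) (iSup_affineOpens_eq_top Y) ?_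
  intro U
  have h1 : IsAffine U.1.toScheme := U.2
  have h2 : IsAffine (f ⁻¹ᵁ U.1).toScheme := U.2.preimage f
  refine ⟨h2, ?_⟩
  have h3 : FlatMor.IsUnivHomeo (f ∣_ U.1) :=
    Groth.Agent.FlatA.UnivHomeo.isUnivHomeo_of_isPullback (isPullback_morphismRestrict f U.1).flip hf
  rw [MorphismProperty.arrow_mk_iso_iff FlatMor.IsUnivHomeo (arrowIsoSpecΓOfIsAffine (f ∣_ U.1))] at h3
  have h4 := bijective_of_isUnivHomeo (p := p) (f ∣_ U.1).appTop (perfRing_of_isPerfect hY (U.1.ι ''ᵁ ⊤))
    (perfRing_of_isPerfect hX ((f ⁻¹ᵁ U.1).ι ''ᵁ ⊤)) h3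
  exact (ConcreteCategory.isIso_iff_bijective _).mpr h4

end K818.UHIso
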